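import Groth.Agent.Lib.GeomIrr18.Scheme
import Mathlib.AlgebraicGeometry.Morphisms.Integral
import Mathlib.AlgebraicGeometry.Morphisms.Preimmersion
import Mathlib.AlgebraicGeometry.Properties
import Mathlib.FieldTheory.SeparableClosure

/-!
Preimages under a change of the base field.
-/

universe u

open CategoryTheory Limits AlgebraicGeometry

namespace Groth.Agent.GeomIrr

/-- The base change of a morphism over the base. -/
theorem exists_bcMap {X Y S T : Scheme.{u}} (f : X ⟶ S) (s : T ⟶ S) (h : Y ⟶ X) :
    ∃ q : pullback (h ≫ f) s ⟶ pullback f s, q ≫ pullback.fst f s = pullback.fst (h ≫ f) s ≫ h ∧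
      q ≫ pullback.snd f s = pullback.snd (h ≫ f) s ∧
      Set.range q = pullback.fst f s ⁻¹' Set.range h ∧ (IsPreimmersion h → IsPreimmersion q) := by
  let e := pullbackRightPullbackFstIso f s h
  refine ⟨e.inv ≫ pullback.snd h (pullback.fst f s), ?_, ?_, ?_, fun hh => ?_⟩
  · rw [Category.assoc, ← pullback.condition, ← Category.assoc]
    congr 1
    rw [Iso.inv_comp_eq, pullbackRightPullbackFstIso_hom_fst]
  · rw [Category.assoc, Iso.inv_comp_eq, pullbackRightPullbackFstIso_hom_snd]
  · rw [← Scheme.Pullback.range_snd]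
    refine Set.Subset.antisymm (Set.range_subset_iff.mpr fun z => ⟨e.inv z, rfl⟩) (Set.range_subset_iff.mpr fun z => ?_)
    refine ⟨e.hom z, ?_⟩
    conv_rhs => rw [← Category.id_comp (pullback.snd h (pullback.fst f s)), ← e.hom_inv_id, Category.assoc]
    rfl
  · haveI := hh
    haveI : IsPreimmersion (pullback.snd h (pullback.fst f s)) := MorphismProperty.pullback_snd _ _ hh
    infer_instance

/-- The image of a point which maps onto a fixed connected set. -/
theorem preconnected_preimage_aux {α β : Type*} [TopologicalSpace α] [TopologicalSpace β] {π : α → β}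
    (hc : IsClosedMap π) (ho : IsOpenMap π) (hcont : Continuous π) (hs : Function.Surjective π) {T : Set β} (hT : _root_.IsPreconnected T)
    (hTc : IsClosed T) {x : β} (hx : x ∈ T) {W : Set α} (hW : _root_.IsPreconnected W) (hWT : W ⊆ π ⁻¹' T) (hxW : π ⁻¹' {x} ⊆ W) :
    _root_.IsConnected (π ⁻¹' T) := by
  obtain ⟨z, hz⟩ := hs x
  refine ⟨⟨z, show π z ∈ T from hz ▸ hx⟩, isPreconnected_closed_iff.mpr fun A B hA hB hAB hneA hneB => ?_⟩
  by_contra hne
  rw [Set.not_nonempty_iff_eq_empty] at hne
  have key : ∀ A B : Set α, IsClosed A → IsClosed B → π ⁻¹' T ⊆ A ∪ B → (π ⁻¹' T ∩ A).Nonempty →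
      π ⁻¹' T ∩ (A ∩ B) = ∅ → ∃ a ∈ π ⁻¹' T ∩ A, π a = x := by
    intro A B hA hB hAB hneA hne
    have h1 : T ∩ π '' Bᶜ = π '' (π ⁻¹' T ∩ A) := by
      ext b
      constructor
      · rintro ⟨hb, a, ha, rfl⟩
        exact ⟨a, ⟨hb, (hAB hb).resolve_right ha⟩, rfl⟩
      · rintro ⟨a, ⟨ha, haA⟩, rfl⟩
        exact ⟨ha, a, fun haB => hne.le ⟨ha, haA, haB⟩, rfl⟩
    by_contra hxA
    have hxn : x ∉ π '' (π ⁻¹' T ∩ A) := fun ⟨a, ha, h⟩ => hxA ⟨a, ha, h⟩
    obtain ⟨a, ha⟩ := hneA
    have h2 : π a ∈ T ∩ π '' Bᶜ := h1.ge ⟨a, ha, rfl⟩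
    obtain ⟨b, hbT, hb1, hb2⟩ := hT (π '' Bᶜ) (π '' (π ⁻¹' T ∩ A))ᶜ (ho _ hB.isOpen_compl)
      (hc _ ((hTc.preimage hcont).inter hA)).isOpen_compl
      (fun b hb => (em (b ∈ π '' (π ⁻¹' T ∩ A))).imp (fun h => (h1.ge h).2) id)
      ⟨π a, ha.1, h2.2⟩ ⟨x, hx, hxn⟩
    exact hb2 (h1.le ⟨hbT, hb1⟩)
  obtain ⟨a, ⟨haT, haA⟩, ha⟩ := key A B hA hB hAB hneA hne
  obtain ⟨b, ⟨hbT, hbB⟩, hb⟩ := key B A hB hA (Set.union_comm A B ▸ hAB) hneB (Set.inter_comm A B ▸ hne)
  obtain ⟨c, hcW, hcA, hcB⟩ := isPreconnected_closed_iff.mp hW A B hA hB (hWT.trans hAB)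
    ⟨a, hxW ha, haA⟩ ⟨b, hxW hb, hbB⟩
  exact hne.le ⟨hWT hcW, hcA, hcB⟩

variable {k : Type u} [Field k] {X : Scheme.{u}} (f : X ⟶ Spec (CommRingCat.of k))

local notation "spm" K => Spec.map (CommRingCat.ofHom (algebraMap k K))

theorem universallyOpen_fst (K : Type u) [Field K] [Algebra k K] : UniversallyOpen (pullback.fst f (spm K)) := by
  haveI : Subsingleton ↥(Spec (CommRingCat.of k)) := inferInstanceAs (Subsingleton (PrimeSpectrum k))
  exact MorphismProperty.pullback_fst _ _ (inferInstanceAs (UniversallyOpen (spm K)))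

theorem surjective_fst (K : Type u) [Field K] [Algebra k K] : Surjective (pullback.fst f (spm K)) :=
  MorphismProperty.pullback_fst _ _ (surjective_specMap k K)

theorem isIntegralHom_fst (K : Type u) [Field K] [Algebra k K] [Algebra.IsAlgebraic k K] :
    IsIntegralHom (pullback.fst f (spm K)) := by
  haveI : IsIntegralHom (spm K) := by
    rw [IsIntegralHom.SpecMap_iff]
    exact algebraMap_isIntegral_iff.mpr inferInstance
  exact MorphismProperty.pullback_fst _ _ inferInstance

theorem pullbackLeftPullbackSndIso_inv_fst_assoc_aux {A B C D : Scheme.{u}} (a : A ⟶ C) (b : B ⟶ C) (t : D ⟶ B) :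
    (pullbackLeftPullbackSndIso a b t).inv ≫ pullback.fst (pullback.snd a b) t ≫ pullback.fst a b =
      pullback.fst a (t ≫ b) := by
  rw [Iso.inv_comp_eq, pullbackLeftPullbackSndIso_hom_fst]

/-- Preimages of connected sets are connected as soon as one fibre is contained in a connected set
over the separable closure. -/
theorem isConnected_preimage {T : Set X} (hT : _root_.IsPreconnected T) (hTc : IsClosed T) {x : X} (hx : x ∈ T)
    (W : Set ↥(pullback f (spm (SeparableClosure k)))) (hW : _root_.IsPreconnected W)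
    (hWT : W ⊆ pullback.fst f (spm (SeparableClosure k)) ⁻¹' T)
    (hxW : pullback.fst f (spm (SeparableClosure k)) ⁻¹' {x} ⊆ W) (K : Type u) [Field K] [Algebra k K] :
    _root_.IsConnected (pullback.fst f (spm K) ⁻¹' T) := by
  let Ω := SeparableClosure k
  let π := pullback.fst f (spm Ω)
  haveI := isIntegralHom_fst f Ω
  haveI := universallyOpen_fst f Ω
  haveI := surjective_fst f Ω
  have h0 : _root_.IsConnected (π ⁻¹' T) :=
    preconnected_preimage_aux π.isClosedMap π.isOpenMap π.continuous π.surjective hT hTc hx hW hWT hxW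
  let L := AlgebraicClosure K
  let j : Ω →ₐ[k] L := IsAlgClosed.lift
  letI : Algebra Ω L := j.toRingHom.toAlgebra
  let tΩ := Spec.map (CommRingCat.ofHom (algebraMap Ω L))
  let tK := Spec.map (CommRingCat.ofHom (algebraMap K L))
  have hΩ : tΩ ≫ (spm Ω) = spm L := by
    rw [← Spec.map_comp, ← CommRingCat.ofHom_comp]
    exact congrArg (fun φ => Spec.map (CommRingCat.ofHom φ)) j.comp_algebraMap
  have hK : tK ≫ (spm K) = spm L := by
    rw [← Spec.map_comp, ← CommRingCat.ofHom_comp, ← IsScalarTower.algebraMap_eq]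
  haveI := geometricallyIrreducible_specMap Ω L
  haveI := geometricallyConnected_of_irreducible tΩ
  haveI : Subsingleton ↥(Spec (CommRingCat.of Ω)) := inferInstanceAs (Subsingleton (PrimeSpectrum Ω))
  haveI : UniversallyOpen tΩ := inferInstance
  let p := pullback.fst (pullback.snd f (spm Ω)) tΩ
  have h1 : _root_.IsConnected (p ⁻¹' (π ⁻¹' T)) := p.isConnected_preimage p.isOpenMap h0 (hTc.preimage π.continuous)
  let r : pullback (pullback.snd f (spm Ω)) tΩ ⟶ pullback f (spm K) :=
    (pullbackLeftPullbackSndIso f (spm Ω) tΩ).hom ≫ (pullback.congrHom rfl (hΩ.trans hK.symm)).hom ≫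
      (pullbackLeftPullbackSndIso f (spm K) tK).inv ≫ pullback.fst (pullback.snd f (spm K)) tK
  have hr : r ≫ pullback.fst f (spm K) = p ≫ π := by
    have hc : ∀ (a b : Spec (CommRingCat.of L) ⟶ Spec (CommRingCat.of k)) (e : a = b),
        (pullback.congrHom (f₁ := f) rfl e).hom ≫ pullback.fst f b = pullback.fst f a := by
      rintro a _ rfl
      simp
    simp only [r, p, π, Category.assoc]
    rw [pullbackLeftPullbackSndIso_inv_fst_assoc_aux f (spm K) tK, hc, pullbackLeftPullbackSndIso_hom_fst]
  haveI := surjective_specMap K L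
  haveI : Surjective r := inferInstance
  have h2 : r '' (p ⁻¹' (π ⁻¹' T)) = pullback.fst f (spm K) ⁻¹' T := by
    have h3 : p ⁻¹' (π ⁻¹' T) = r ⁻¹' (pullback.fst f (spm K) ⁻¹' T) := by
      ext z
      change (p ≫ π) z ∈ T ↔ (r ≫ pullback.fst f (spm K)) z ∈ T
      rw [hr]
    rw [h3, Set.image_preimage_eq _ r.surjective]
  rw [← h2]
  exact h1.image r r.continuous.continuousOn

/-- A connected scheme is geometrically connected if one fibre is contained in a connected set. -/
theorem geometricallyConnected_of_fibre [ConnectedSpace X] (x : X)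
    (W : Set ↥(pullback f (spm (SeparableClosure k)))) (hW : _root_.IsPreconnected W)
    (hxW : pullback.fst f (spm (SeparableClosure k)) ⁻¹' {x} ⊆ W) : GeometricallyConnected f := by
  refine ⟨geometrically_iff_of_commRing_of_isClosedUnderIsomorphisms.mpr fun K _ _ => connectedSpace_iff_univ.mpr ?_⟩
  have := isConnected_preimage f isPreconnected_univ isClosed_univ (Set.mem_univ x) W hW (Set.subset_univ _) hxW K
  rwa [Set.preimage_univ] at this

/-- The part of the base change over a morphism from a geometrically connected scheme is connected. -/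
theorem isConnected_preimage_range {Y : Scheme.{u}} (h : Y ⟶ X) [GeometricallyConnected (h ≫ f)] (K : Type u) [Field K]
    [Algebra k K] : _root_.IsConnected (pullback.fst f (spm K) ⁻¹' Set.range h) := by
  obtain ⟨q, -, -, hq, -⟩ := exists_bcMap f (spm K) h
  haveI : ConnectedSpace ↥(pullback (h ≫ f) (spm K)) :=
    GeometricallyConnected.geometrically_connectedSpace (f := h ≫ f) (spm K) _ _ (IsPullback.of_hasPullback _ _)
  rw [← hq]
  exact isConnected_range q.continuous

/-- A connected scheme receiving a geometrically connected one is geometrically connected. -/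
theorem geometricallyConnected_of_hom [ConnectedSpace X] {Y : Scheme.{u}} (h : Y ⟶ X) [GeometricallyConnected (h ≫ f)]
    (y : Y) : GeometricallyConnected f :=
  geometricallyConnected_of_fibre f (h y) _ (isConnected_preimage_range f h (SeparableClosure k)).isPreconnected
    (Set.preimage_mono (Set.singleton_subset_iff.mpr ⟨y, rfl⟩))

omit f in
/-- The generic fibre of an irreducible base change is irreducible. -/
theorem irreducibleSpace_fibre_generic {S T : Scheme.{u}} [IrreducibleSpace X] (f : X ⟶ S) (g : T ⟶ S) [UniversallyOpen g]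
    [Surjective g] [IrreducibleSpace ↥(pullback f g)] :
    IrreducibleSpace ↥(pullback (X.fromSpecResidueField (genericPoint X) ≫ f) g) := by
  obtain ⟨q, -, -, hq, hqi⟩ := exists_bcMap f g (X.fromSpecResidueField (genericPoint X))
  haveI := hqi inferInstance
  rw [Scheme.range_fromSpecResidueField] at hq
  have hd : Dense (Set.range q) := by
    rw [hq]
    exact (dense_iff_closure_eq.mpr (genericPoint_spec X)).preimage (pullback.fst f g).isOpenMap
  have hr : IsIrreducible (Set.range q) := isIrreducible_iff_closure.mp (by rw [hd.closure_eq]; exact IrreducibleSpace.isIrreducible_univ _)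
  haveI : IrreducibleSpace (Set.range q) :=
    haveI := Subtype.preirreducibleSpace hr.isPreirreducible
    { toNonempty := hr.nonempty.to_subtype }
  exact (q.isEmbedding.toHomeomorph).irreducibleSpace_iff.mpr inferInstance

/-- An irreducible scheme whose generic point is geometrically irreducible is geometrically irreducible. -/
theorem geometricallyIrreducible_of_generic [IrreducibleSpace X]
    [GeometricallyIrreducible (X.fromSpecResidueField (genericPoint X) ≫ f)] : GeometricallyIrreducible f := by
  refine ⟨geometrically_iff_of_commRing_of_isClosedUnderIsomorphisms.mpr fun K _ _ => ?_⟩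
  obtain ⟨q, -, -, hq, -⟩ := exists_bcMap f (spm K) (X.fromSpecResidueField (genericPoint X))
  haveI : IrreducibleSpace ↥(pullback (X.fromSpecResidueField (genericPoint X) ≫ f) (spm K)) :=
    GeometricallyIrreducible.geometrically_irreducibleSpace (f := X.fromSpecResidueField (genericPoint X) ≫ f) (spm K) _ _
      (IsPullback.of_hasPullback _ _)
  haveI := universallyOpen_fst f K
  rw [Scheme.range_fromSpecResidueField] at hq
  have hd : Dense (Set.range q) := by
    rw [hq]
    exact (dense_iff_closure_eq.mpr (genericPoint_spec X)).preimage (pullback.fst f (spm K)).isOpenMap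
  refine (irreducibleSpace_def _).mpr ?_
  change IsIrreducible (Set.univ : Set ↥(pullback f (spm K)))
  rw [← hd.closure_eq, isIrreducible_iff_closure, ← Set.image_univ]
  exact (IrreducibleSpace.isIrreducible_univ _).image q q.continuous.continuousOn

end Groth.Agent.GeomIrr
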