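import Groth.Agent.Lib.GeomIrr18.Alg
import Mathlib.AlgebraicGeometry.Geometrically.Connected
import Mathlib.AlgebraicGeometry.Geometrically.Irreducible
import Mathlib.AlgebraicGeometry.Morphisms.UniversallyOpen
import Mathlib.AlgebraicGeometry.PullbackCarrier
import Mathlib.FieldTheory.IsSepClosed

/-!
Geometric irreducibility and connectedness of schemes over fields.
-/

universe u

open CategoryTheory Limits AlgebraicGeometry

namespace Groth.Agent.GeomIrr

theorem connectedSpace_of_irreducibleSpace (α : Type*) [TopologicalSpace α] [IrreducibleSpace α] : ConnectedSpace α :=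
  connectedSpace_iff_univ.mpr (IrreducibleSpace.isIrreducible_univ α).isConnected

theorem geometricallyConnected_of_irreducible {X Y : Scheme.{u}} (f : X ⟶ Y) [GeometricallyIrreducible f] :
    GeometricallyConnected f :=
  ⟨fun _ _ y _ fst snd h =>
    haveI := GeometricallyIrreducible.geometrically_irreducibleSpace (f := f) y fst snd h
    connectedSpace_of_irreducibleSpace _⟩

theorem irreducibleSpace_of_surjective {X Y : Scheme.{u}} (p : X ⟶ Y) [Surjective p] [IrreducibleSpace X] :
    IrreducibleSpace Y := by
  refine (irreducibleSpace_def _).mpr ?_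
  change IsIrreducible (Set.univ : Set Y)
  rw [← p.surjective.range_eq, ← Set.image_univ]
  exact (IrreducibleSpace.isIrreducible_univ _).image p p.continuous.continuousOn

theorem connectedSpace_of_surjective {X Y : Scheme.{u}} (p : X ⟶ Y) [Surjective p] [ConnectedSpace X] :
    ConnectedSpace Y := by
  refine connectedSpace_iff_univ.mpr ?_
  rw [← p.surjective.range_eq]
  exact isConnected_range p.continuous

/-- Extensions of a separably closed field are geometrically irreducible. -/
theorem geometricallyIrreducible_specMap (k : Type u) [Field k] [IsSepClosed k] (K : Type u) [Field K] [Algebra k K] :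
    GeometricallyIrreducible (Spec.map (CommRingCat.ofHom (algebraMap k K))) := by
  refine ⟨geometrically_iff_of_commRing_of_isClosedUnderIsomorphisms.mpr fun L _ _ => ?_⟩
  rw [(pullbackSpecIso k K L).hom.homeomorph.irreducibleSpace_iff]
  exact irreducibleSpace_tensor_field K L

/-- An irreducible scheme over a separably closed field is geometrically irreducible. -/
theorem geometricallyIrreducible_of_isSepClosed {k : Type u} [Field k] [IsSepClosed k] {X : Scheme.{u}}
    (f : X ⟶ Spec (CommRingCat.of k)) [IrreducibleSpace X] : GeometricallyIrreducible f := by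
  refine ⟨geometrically_iff_of_commRing_of_isClosedUnderIsomorphisms.mpr fun L _ _ => ?_⟩
  haveI := geometricallyIrreducible_specMap k L
  infer_instance

/-- A connected scheme over a separably closed field is geometrically connected. -/
theorem geometricallyConnected_of_isSepClosed {k : Type u} [Field k] [IsSepClosed k] {X : Scheme.{u}}
    (f : X ⟶ Spec (CommRingCat.of k)) [ConnectedSpace X] : GeometricallyConnected f := by
  refine ⟨geometrically_iff_of_commRing_of_isClosedUnderIsomorphisms.mpr fun L _ _ => ?_⟩
  haveI := geometricallyIrreducible_specMap k L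
  haveI := geometricallyConnected_of_irreducible (Spec.map (CommRingCat.ofHom (algebraMap k L)))
  infer_instance

/-- Geometric properties which pass to surjective images descend along surjections of the base. -/
theorem geometrically_of_surjective (P : ObjectProperty Scheme.{u}) [P.IsClosedUnderIsomorphisms]
    (hP : ∀ (A B : Scheme.{u}) (p : A ⟶ B), Surjective p → P A → P B) {X Y Y' : Scheme.{u}} (f : X ⟶ Y) (g : Y' ⟶ Y)
    [Surjective g] (h : geometrically P (pullback.snd f g)) : geometrically P f := by
  refine geometrically_iff_of_isClosedUnderIsomorphisms.mpr fun K _ y => ?_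
  obtain ⟨w, -⟩ := (pullback.fst y g).surjective (IsLocalRing.closedPoint K : Spec (CommRingCat.of K))
  let ι := (pullback y g).fromSpecResidueField w
  let a := ι ≫ pullback.fst y g
  let b := ι ≫ pullback.snd y g
  have hab : a ≫ y = b ≫ g := by simp only [a, b, Category.assoc, pullback.condition]
  have h1 : IsPullback (pullback.fst (pullback.snd f y) a ≫ pullback.fst f y)
      (pullback.snd (pullback.snd f y) a) f (a ≫ y) :=
    IsPullback.paste_horiz (IsPullback.of_hasPullback _ _) (IsPullback.of_hasPullback _ _)
  rw [hab] at h1
  let q : pullback (pullback.snd f y) a ⟶ pullback f g :=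
    pullback.lift (pullback.fst (pullback.snd f y) a ≫ pullback.fst f y)
      (pullback.snd (pullback.snd f y) a ≫ b) (by rw [Category.assoc]; exact h1.w.trans (Category.assoc _ _ _).symm)
  have h2 : IsPullback q (pullback.snd (pullback.snd f y) a) (pullback.snd f g) b := by
    refine IsPullback.of_right ?_ (pullback.lift_snd _ _ _) (IsPullback.of_hasPullback f g)
    rwa [pullback.lift_fst]
  haveI : Surjective a := by
    haveI : Subsingleton ↥(Spec (CommRingCat.of K)) := inferInstanceAs (Subsingleton (PrimeSpectrum K))
    exact ⟨fun x => ⟨IsLocalRing.closedPoint _, Subsingleton.elim _ _⟩⟩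
  exact hP _ _ (pullback.fst (pullback.snd f y) a) inferInstance (h b q _ h2)

theorem geometricallyIrreducible_of_pullback {X Y Y' : Scheme.{u}} (f : X ⟶ Y) (g : Y' ⟶ Y) [Surjective g]
    [GeometricallyIrreducible (pullback.snd f g)] : GeometricallyIrreducible f :=
  ⟨geometrically_of_surjective _ (fun _ _ p _ (_ : IrreducibleSpace _) => irreducibleSpace_of_surjective p) f g
    GeometricallyIrreducible.geometrically_irreducibleSpace⟩

theorem geometricallyConnected_of_pullback {X Y Y' : Scheme.{u}} (f : X ⟶ Y) (g : Y' ⟶ Y) [Surjective g]
    [GeometricallyConnected (pullback.snd f g)] : GeometricallyConnected f :=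
  ⟨geometrically_of_surjective _ (fun _ _ p _ (_ : ConnectedSpace _) => connectedSpace_of_surjective p) f g
    GeometricallyConnected.geometrically_connectedSpace⟩

theorem surjective_specMap (k K : Type u) [Field k] [Field K] [Algebra k K] :
    Surjective (Spec.map (CommRingCat.ofHom (algebraMap k K))) := by
  haveI : Subsingleton ↥(Spec (CommRingCat.of k)) := inferInstanceAs (Subsingleton (PrimeSpectrum k))
  exact ⟨fun x => ⟨IsLocalRing.closedPoint _, Subsingleton.elim _ _⟩⟩

/-- Irreducibility over one separably closed extension suffices. -/
theorem geometricallyIrreducible_of_bc {k : Type u} [Field k] {X : Scheme.{u}} (f : X ⟶ Spec (CommRingCat.of k))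
    (Ω : Type u) [Field Ω] [Algebra k Ω] [IsSepClosed Ω]
    [IrreducibleSpace ↥(pullback f (Spec.map (CommRingCat.ofHom (algebraMap k Ω))))] : GeometricallyIrreducible f := by
  haveI := surjective_specMap k Ω
  haveI := geometricallyIrreducible_of_isSepClosed (pullback.snd f (Spec.map (CommRingCat.ofHom (algebraMap k Ω))))
  exact geometricallyIrreducible_of_pullback f (Spec.map (CommRingCat.ofHom (algebraMap k Ω)))

/-- Connectedness over one separably closed extension suffices. -/
theorem geometricallyConnected_of_bc {k : Type u} [Field k] {X : Scheme.{u}} (f : X ⟶ Spec (CommRingCat.of k))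
    (Ω : Type u) [Field Ω] [Algebra k Ω] [IsSepClosed Ω]
    [ConnectedSpace ↥(pullback f (Spec.map (CommRingCat.ofHom (algebraMap k Ω))))] : GeometricallyConnected f := by
  haveI := surjective_specMap k Ω
  haveI := geometricallyConnected_of_isSepClosed (pullback.snd f (Spec.map (CommRingCat.ofHom (algebraMap k Ω))))
  exact geometricallyConnected_of_pullback f (Spec.map (CommRingCat.ofHom (algebraMap k Ω)))

end Groth.Agent.GeomIrr
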