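import Groth.Agent.Lib.GeomIrr18.Scheme
import Mathlib.FieldTheory.SeparableClosure
import Mathlib.FieldTheory.PrimitiveElement
import Mathlib.RingTheory.Unramified.Finite
import Mathlib.RingTheory.Unramified.Field
import Mathlib.LinearAlgebra.TensorProduct.Finiteness

/-!
Extensions in which the base field is separably closed.
-/

universe u

open CategoryTheory Limits AlgebraicGeometry TensorProduct Polynomial

namespace Groth.Agent.GeomIrr

variable {k K : Type u} [Field k] [Field K] [Algebra k K]

variable (h : ∀ a : K, IsSeparable k a → a ∈ Set.range (algebraMap k K))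
include h

/-- The minimal polynomial of a separable element does not change. -/
theorem minpoly_map {E : Type u} [Field E] [IsAlgClosed E] [Algebra k E] [Algebra K E] [IsScalarTower k K E]
    {β : E} (hβ : IsSeparable k β) : minpoly K β = (minpoly k β).map (algebraMap k K) := by
  have hi : IsIntegral k β := hβ.isIntegral
  have hiK : IsIntegral K β := hi.tower_top
  set g := minpoly K β
  have hg : g.Monic := minpoly.monic hiK
  have hdvd : g.map (algebraMap K E) ∣ (minpoly k β).map (algebraMap k E) := by
    rw [IsScalarTower.algebraMap_eq k K E, ← Polynomial.map_map]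
    exact Polynomial.map_dvd _ (minpoly.dvd_map_of_isScalarTower k K β)
  have hS : g.map (algebraMap K E) ∈ Polynomial.lifts (algebraMap (separableClosure k E) E) := by
    rw [(IsAlgClosed.splits (g.map (algebraMap K E))).eq_prod_roots_of_monic (hg.map _)]
    refine multiset_prod_mem (S := Polynomial.lifts (algebraMap (separableClosure k E) E)) _ fun q hq => ?_
    obtain ⟨r, hr, rfl⟩ := Multiset.mem_map.mp hq
    have hr0 := Multiset.mem_of_le (Polynomial.roots.le_of_dvd (Polynomial.map_ne_zero (minpoly.ne_zero hi)) hdvd) hr
    rw [Polynomial.mem_roots (Polynomial.map_ne_zero (minpoly.ne_zero hi)), IsRoot.def, eval_map_algebraMap] at hr0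
    have hsep : IsSeparable k r := Polynomial.Separable.of_dvd hβ (minpoly.dvd k r hr0)
    exact (Polynomial.lifts_iff_coeff_lifts _).mpr fun n => by
      rw [Polynomial.coeff_sub, Polynomial.coeff_C]
      refine ⟨Polynomial.coeff X n - if n = 0 then ⟨r, mem_separableClosure_iff.mpr hsep⟩ else 0, ?_⟩
      rw [map_sub, apply_ite (algebraMap (separableClosure k E) E), map_zero]
      congr 1
      rw [Polynomial.coeff_X, Polynomial.coeff_X, apply_ite (algebraMap (separableClosure k E) E), map_one, map_zero]
  have hlift : g ∈ Polynomial.lifts (algebraMap k K) := (Polynomial.lifts_iff_coeff_lifts _).mpr fun n => by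
    obtain ⟨s, hs⟩ := (Polynomial.lifts_iff_coeff_lifts _).mp hS n
    rw [Polynomial.coeff_map] at hs
    refine h _ (mem_separableClosure_iff.mp ((map_mem_separableClosure_iff (IsScalarTower.toAlgHom k K E)).mp ?_))
    rw [IsScalarTower.toAlgHom_apply, ← hs]
    exact s.2
  obtain ⟨q, hq, -, hqm⟩ := Polynomial.lifts_and_degree_eq_and_monic hlift hg
  refine eq_of_monic_of_associated hg ((minpoly.monic hi).map _) (associated_of_dvd_dvd (minpoly.dvd_map_of_isScalarTower k K β) ?_)
  rw [← hq]
  refine Polynomial.map_dvd _ (minpoly.dvd k β ?_)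
  rw [← aeval_map_algebraMap K, hq]
  exact minpoly.aeval K β

/-- The separable closure of the base stays a field after tensoring. -/
theorem isDomain_tensor_separableClosure : IsDomain (K ⊗[k] SeparableClosure k) := by
  let E := AlgebraicClosure K
  let ks := SeparableClosure k
  let j : ks →ₐ[k] E := IsAlgClosed.lift
  let Φ : K ⊗[k] ks →ₐ[K] E := Algebra.TensorProduct.lift (Algebra.ofId K E) j (fun _ _ => Commute.all _ _)
  suffices hΦ : Function.Injective Φ from hΦ.isDomain Φ.toRingHom
  rw [injective_iff_map_eq_zero]
  intro z hz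
  classical
  obtain ⟨S, hS⟩ := TensorProduct.exists_finset z
  let F := IntermediateField.adjoin k ((S.image Prod.snd : Finset ks) : Set ks)
  haveI : FiniteDimensional k F := IntermediateField.finiteDimensional_adjoin fun x _ => Algebra.IsIntegral.isIntegral x
  obtain ⟨z₀, hz₀⟩ : ∃ z₀ : K ⊗[k] F, Algebra.TensorProduct.map (AlgHom.id K K) F.val z₀ = z := by
    refine ⟨∑ i ∈ S.attach, i.1.1 ⊗ₜ[k] ⟨i.1.2, IntermediateField.subset_adjoin k _ (Finset.mem_coe.mpr (Finset.mem_image_of_mem _ i.2))⟩, ?_⟩
    rw [hS, map_sum]
    exact Finset.sum_attach S (fun i => i.1 ⊗ₜ[k] i.2)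
  obtain ⟨α, hα⟩ := Field.exists_primitive_element k F
  let pb : PowerBasis k F := ((IntermediateField.adjoin.powerBasis (IsIntegral.of_finite k α)).map
    ((IntermediateField.equivOfEq hα).trans IntermediateField.topEquiv))
  let b := Algebra.TensorProduct.basis K pb.basis
  let β : E := j (pb.gen : F)
  have hsep : IsSeparable k β := by
    have h1 : IsSeparable k (pb.gen : F).1 := Algebra.IsSeparable.isSeparable k _
    exact (map_mem_separableClosure_iff j).mpr h1
  have hli : LinearIndependent K fun i : Fin pb.dim => β ^ (i : ℕ) := by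
    have hdim : pb.dim = (minpoly K β).natDegree := by
      rw [minpoly_map h hsep, Polynomial.natDegree_map, ← pb.natDegree_minpoly]
      exact congrArg Polynomial.natDegree ((minpoly.algHom_eq (j.comp F.val) (j.comp F.val).injective pb.gen)).symm
    exact (linearIndependent_pow β).comp (Fin.cast hdim) (Fin.cast_injective _)
  let Ψ : K ⊗[k] F →ₐ[K] E := Φ.comp (Algebra.TensorProduct.map (AlgHom.id K K) F.val)
  have h0 : Ψ z₀ = 0 := by
    exact (congrArg Φ hz₀).trans hz
  have hb : ∀ i, Ψ (b i) = β ^ (i : ℕ) := fun i => by
    simp [Ψ, Φ, b, β, Algebra.TensorProduct.basis_apply]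
  rw [← b.sum_repr z₀, map_sum] at h0
  simp_rw [map_smul, hb] at h0
  have hc := Fintype.linearIndependent_iff.mp hli (fun i => b.repr z₀ i) h0
  rw [← hz₀, show z₀ = 0 from b.repr.map_eq_zero_iff.mp (Finsupp.ext hc), map_zero]

/-- Extensions in which the base is separably closed are geometrically irreducible. -/
theorem geometricallyIrreducible_of_separable : GeometricallyIrreducible (Spec.map (CommRingCat.ofHom (algebraMap k K))) := by
  haveI := isDomain_tensor_separableClosure h
  haveI : IrreducibleSpace ↥(pullback (Spec.map (CommRingCat.ofHom (algebraMap k K)))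
      (Spec.map (CommRingCat.ofHom (algebraMap k (SeparableClosure k))))) := by
    rw [(pullbackSpecIso k K (SeparableClosure k)).hom.homeomorph.irreducibleSpace_iff]
    exact (inferInstance : IrreducibleSpace (PrimeSpectrum (K ⊗[k] SeparableClosure k)))
  exact geometricallyIrreducible_of_bc _ (SeparableClosure k)

omit h

/-- If `K ⊗ K` has connected spectrum the separable elements lie in the base. -/
theorem separable_mem_range' (hKK : ConnectedSpace ↥(pullback (Spec.map (CommRingCat.ofHom (algebraMap k K)))
      (Spec.map (CommRingCat.ofHom (algebraMap k K))))) (a : K)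
    (ha : IsSeparable k a) : a ∈ Set.range (algebraMap k K) := by
  let F := IntermediateField.adjoin k {a}
  haveI : FiniteDimensional k F := IntermediateField.adjoin.finiteDimensional ha.isIntegral
  haveI : Algebra.IsSeparable k F := (IntermediateField.isSeparable_adjoin_simple_iff_isSeparable k K).mpr ha
  haveI : Algebra.EssFiniteType k F := inferInstance
  haveI : Algebra.FormallyUnramified k F := Algebra.FormallyUnramified.of_isSeparable k F
  haveI hK : ConnectedSpace (PrimeSpectrum (K ⊗[k] F)) := by
    refine (pullbackSpecIso k K F).hom.homeomorph.connectedSpace_iff.mp ?_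
    let sK := Spec.map (CommRingCat.ofHom (algebraMap k K))
    let sF := Spec.map (CommRingCat.ofHom (algebraMap k F))
    let t := Spec.map (CommRingCat.ofHom (algebraMap F K))
    haveI := surjective_specMap F K
    have ht : t ≫ sF = sK := by
      rw [← Spec.map_comp, ← CommRingCat.ofHom_comp, ← IsScalarTower.algebraMap_eq]
    haveI : ConnectedSpace ↥(pullback sK (t ≫ sF)) := by rw [ht]; exact hKK
    exact connectedSpace_of_surjective ((pullbackLeftPullbackSndIso sK sF t).inv ≫ pullback.fst (pullback.snd sK sF) t)
  let ψ : F ⊗[k] F →ₐ[k] K ⊗[k] F := Algebra.TensorProduct.map F.val (AlgHom.id k F)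
  have hψ : Function.Injective ψ :=
    Module.Flat.rTensor_preserves_injective_linearMap (M := F) F.val.toLinearMap Subtype.val_injective
  let e := Algebra.FormallyUnramified.elem k F
  have he : IsIdempotentElem e := by
    have key : ∀ z : F ⊗[k] F, z * e = (Algebra.TensorProduct.lmul' k z ⊗ₜ[k] (1 : F)) * e := by
      intro z
      induction z using TensorProduct.induction_on with
      | zero => simp
      | add z w hz hw => rw [add_mul, hz, hw, map_add, TensorProduct.add_tmul, add_mul]
      | tmul u v =>
        rw [Algebra.TensorProduct.lmul'_apply_tmul, ← mul_one (u ⊗ₜ[k] v), show u ⊗ₜ[k] v = (u ⊗ₜ[k] (1 : F)) * ((1 : F) ⊗ₜ[k] v) by simp,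
          mul_one, mul_assoc, Algebra.FormallyUnramified.one_tmul_mul_elem, ← mul_assoc, Algebra.TensorProduct.tmul_mul_tmul, one_mul]
    change e * e = e
    rw [key e, Algebra.FormallyUnramified.lmul_elem, ← Algebra.TensorProduct.one_def, one_mul]
  have he1 : e = 1 := by
    rcases isClopen_iff.mp (PrimeSpectrum.isClopen_iff.mpr ⟨ψ e, he.map ψ, rfl⟩) with h0 | h1
    · have : ψ e = 0 := by
        refine PrimeSpectrum.basicOpen_injOn_isIdempotentElem (he.map ψ) (by change (0 : K ⊗[k] F) * 0 = 0; exact zero_mul _) (SetLike.ext' (h0.trans ?_))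
        simp
      have h2 : e = 0 := hψ (by rw [this, map_zero])
      have h3 := Algebra.FormallyUnramified.lmul_elem (R := k) (S := F)
      rw [show Algebra.FormallyUnramified.elem k F = 0 from h2, map_zero] at h3
      exact absurd h3 zero_ne_one
    · have : ψ e = 1 := by
        refine PrimeSpectrum.basicOpen_injOn_isIdempotentElem (he.map ψ) (by change (1 : K ⊗[k] F) * 1 = 1; exact one_mul _) (SetLike.ext' (h1.trans ?_))
        simp
      exact hψ (this.trans ψ.toRingHom.map_one.symm)
  let x : F := ⟨a, IntermediateField.mem_adjoin_simple_self k a⟩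
  have hx : (1 : F) ⊗ₜ[k] x = x ⊗ₜ[k] (1 : F) := by
    have h4 := Algebra.FormallyUnramified.one_tmul_mul_elem (R := k) x
    rwa [show Algebra.FormallyUnramified.elem k F = 1 from he1, mul_one, mul_one] at h4
  by_contra hna
  have hnm : x ∉ Submodule.span k {(1 : F)} := fun hm => by
    obtain ⟨c, hc⟩ := Submodule.mem_span_singleton.mp hm
    rw [← Algebra.algebraMap_eq_smul_one] at hc
    exact hna ⟨c, congrArg Subtype.val hc⟩
  obtain ⟨l, hl, hlb⟩ := Submodule.exists_dual_map_eq_bot_of_notMem hnm inferInstance
  have hl1 : l 1 = 0 := by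
    have := Submodule.mem_map_of_mem (f := l) (Submodule.mem_span_singleton_self (1 : F))
    rwa [hlb, Submodule.mem_bot] at this
  have := congrArg ((TensorProduct.rid k F).toLinearMap ∘ₗ LinearMap.lTensor F l) hx
  simp [hl1, hl] at this

/-- In a geometrically connected extension the separable elements lie in the base. -/
theorem separable_mem_range [GeometricallyConnected (Spec.map (CommRingCat.ofHom (algebraMap k K)))] (a : K)
    (ha : IsSeparable k a) : a ∈ Set.range (algebraMap k K) :=
  separable_mem_range' (GeometricallyConnected.geometrically_connectedSpace (Spec.map (CommRingCat.ofHom (algebraMap k K))) _ _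
    (IsPullback.of_hasPullback _ _)) a ha

end Groth.Agent.GeomIrr
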