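import Groth.Agent.Lib.GeomIrr18.Top
import Groth.Agent.Lib.GeomIrr18.Prim
import Groth.Prelude.Def_CurvBase
import Groth.Prelude.Def_FDesc
import Mathlib.AlgebraicGeometry.Stalk
import Mathlib.FieldTheory.IsSepClosed

/-!
Criteria through residue fields.
-/

universe u

open CategoryTheory Limits AlgebraicGeometry

namespace Groth.Agent.GeomIrr

/-- The residue map is the structure of the point. -/
theorem spec_resMap (k : Type u) [Field k] (X : Scheme.{u}) [X.Over (Spec (CommRingCat.of k))] (x : X) :
    Spec.map (CommRingCat.ofHom (Curv2.resMap k X x)) = X.fromSpecResidueField x ≫ (X ↘ Spec (CommRingCat.of k)) := by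
  have hf : X ↘ Spec (CommRingCat.of k) =
      X.toSpecΓ ≫ Spec.map ((Scheme.ΓSpecIso (CommRingCat.of k)).inv ≫ (X ↘ Spec (CommRingCat.of k)).appTop) := by
    rw [Spec.map_comp, ← Scheme.toSpecΓ_naturality_assoc, toSpecΓ_SpecMap_ΓSpecIso_inv, Category.comp_id]
  rw [hf, Scheme.fromSpecResidueField, Category.assoc, Scheme.fromSpecStalk_toSpecΓ_assoc, ← Spec.map_comp,
    ← Spec.map_comp]
  rfl

variable {k : Type u} [Field k] {X : Scheme.{u}} (f : X ⟶ Spec (CommRingCat.of k))

/-- A connected scheme with a primary point is geometrically connected. -/
theorem geometricallyConnected_of_point [ConnectedSpace X] (x : X) [Algebra k (X.residueField x)]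
    (hφ : Spec.map (CommRingCat.ofHom (algebraMap k (X.residueField x))) = X.fromSpecResidueField x ≫ f)
    (h : ∀ a : X.residueField x, IsSeparable k a → a ∈ Set.range (algebraMap k (X.residueField x))) :
    GeometricallyConnected f := by
  haveI := geometricallyIrreducible_of_separable h
  haveI : GeometricallyConnected (X.fromSpecResidueField x ≫ f) := hφ ▸ geometricallyConnected_of_irreducible _
  exact geometricallyConnected_of_hom f (X.fromSpecResidueField x) (IsLocalRing.closedPoint _)

/-- Geometric irreducibility through the generic point. -/
theorem geometricallyIrreducible_iff_generic [IrreducibleSpace X] [Algebra k (X.residueField (genericPoint X))]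
    (hφ : Spec.map (CommRingCat.ofHom (algebraMap k (X.residueField (genericPoint X)))) = X.fromSpecResidueField (genericPoint X) ≫ f) :
    GeometricallyIrreducible f ↔
      ∀ a : X.residueField (genericPoint X), IsSeparable k a → a ∈ Set.range (algebraMap k (X.residueField (genericPoint X))) := by
  constructor
  · intro hf a ha
    haveI : GeometricallyIrreducible (X.fromSpecResidueField (genericPoint X) ≫ f) := by
      refine ⟨geometrically_iff_of_commRing_of_isClosedUnderIsomorphisms.mpr fun K _ _ => ?_⟩
      haveI := surjective_specMap k K
      haveI : Subsingleton ↥(Spec (CommRingCat.of k)) := inferInstanceAs (Subsingleton (PrimeSpectrum k))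
      haveI : IrreducibleSpace ↥(pullback f (Spec.map (CommRingCat.ofHom (algebraMap k K)))) :=
        GeometricallyIrreducible.geometrically_irreducibleSpace (f := f) _ _ _ (IsPullback.of_hasPullback _ _)
      exact irreducibleSpace_fibre_generic f _
    haveI : GeometricallyConnected (Spec.map (CommRingCat.ofHom (algebraMap k (X.residueField (genericPoint X))))) := by
      rw [hφ]; exact geometricallyConnected_of_irreducible _
    exact separable_mem_range a ha
  · intro h
    haveI : GeometricallyIrreducible (X.fromSpecResidueField (genericPoint X) ≫ f) :=
      hφ ▸ geometricallyIrreducible_of_separable h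
    exact geometricallyIrreducible_of_generic f

/-- Geometric irreducibility through the square. -/
theorem geometricallyIrreducible_iff_self :
    GeometricallyIrreducible f ↔ IrreducibleSpace ↥(pullback f f) := by
  haveI : Subsingleton ↥(Spec (CommRingCat.of k)) := inferInstanceAs (Subsingleton (PrimeSpectrum k))
  constructor
  · intro hf
    haveI := hf
    haveI : IrreducibleSpace X := GeometricallyIrreducible.irreducibleSpace_of_subsingleton (f := f)
    infer_instance
  · intro hXX
    haveI := hXX
    haveI : Nonempty X := ⟨pullback.fst f f (Classical.arbitrary _)⟩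
    haveI : Surjective f := ⟨fun s => ⟨Classical.arbitrary X, Subsingleton.elim _ _⟩⟩
    haveI : IrreducibleSpace X := irreducibleSpace_of_surjective (pullback.fst f f)
    let η := X.fromSpecResidueField (genericPoint X) ≫ f
    haveI : IrreducibleSpace ↥(pullback η f) := irreducibleSpace_fibre_generic f f
    haveI : Surjective η := ⟨fun s => ⟨IsLocalRing.closedPoint _, Subsingleton.elim _ _⟩⟩
    haveI : IrreducibleSpace ↥(pullback f η) := (pullbackSymmetry η f).hom.homeomorph.irreducibleSpace_iff.mp inferInstance
    haveI h2 : IrreducibleSpace ↥(pullback η η) := irreducibleSpace_fibre_generic f η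
    letI : Algebra k (X.residueField (genericPoint X)) := (Spec.preimage η).hom.toAlgebra
    have hφ : Spec.map (CommRingCat.ofHom (algebraMap k (X.residueField (genericPoint X)))) = η := Spec.map_preimage η
    refine (geometricallyIrreducible_iff_generic f hφ).mpr fun a ha => separable_mem_range' ?_ a ha
    rw [hφ]
    exact connectedSpace_of_irreducibleSpace _

end Groth.Agent.GeomIrr
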