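import Groth.Agent.Lib.GeomIrr18.Res
import Groth.Agent.Lib.BcField18.Galois
import Mathlib.AlgebraicGeometry.Morphisms.Flat
import Mathlib.Topology.Sober

/-!
Irreducible components of base changes.
-/

universe u

open CategoryTheory Limits AlgebraicGeometry Topology

namespace Groth.Agent.GeomIrr

/-- Open continuous maps of schemes lift generalisations. -/
theorem exists_specializes {X Y : Scheme.{u}} (p : X ⟶ Y) [Flat p] {x : X} {y : Y} (h : y ⤳ p x) :
    ∃ x', x' ⤳ x ∧ p x' = y := by
  obtain ⟨x', h1, h2⟩ := Flat.generalizingMap p h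
  exact ⟨x', h1, h2⟩

/-- A point is maximal when nothing else specialises to it. -/
def IsMaximalPt {α : Type*} [TopologicalSpace α] (x : α) : Prop := ∀ y, y ⤳ x → y = x

theorem isMaximalPt_of_closure_mem {α : Type*} [TopologicalSpace α] [T0Space α] {x : α}
    (h : closure ({x} : Set α) ∈ irreducibleComponents α) : IsMaximalPt x := fun y hy => by
  have hle : closure ({x} : Set α) ⊆ closure {y} :=
    isClosed_closure.closure_subset_iff.mpr (Set.singleton_subset_iff.mpr (specializes_iff_mem_closure.mp hy))
  exact (hy.antisymm (specializes_iff_mem_closure.mpr (h.2 isIrreducible_singleton.closure hle (subset_closure rfl)))).eq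

theorem closure_mem_of_isMaximalPt {α : Type*} [TopologicalSpace α] [QuasiSober α] [T0Space α] {x : α}
    (h : IsMaximalPt x) : closure ({x} : Set α) ∈ irreducibleComponents α := by
  refine ⟨isIrreducible_singleton.closure, fun S hS hle => ?_⟩
  have hg := hS.isGenericPoint_genericPoint_closure
  have : hS.genericPoint = x := h _ (hg.specializes (subset_closure (hle (subset_closure rfl))))
  rw [← this]
  exact subset_closure.trans hg.def.ge

theorem exists_generic_component {α : Type*} [TopologicalSpace α] [QuasiSober α] [T0Space α] {Z : Set α}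
    (hZ : Z ∈ irreducibleComponents α) : ∃ x, IsMaximalPt x ∧ closure ({x} : Set α) = Z := by
  refine ⟨hZ.1.genericPoint, ?_, ?_⟩
  · have h := hZ.1.closure_genericPoint (isClosed_of_mem_irreducibleComponents Z hZ)
    exact isMaximalPt_of_closure_mem (h.symm ▸ hZ)
  · exact hZ.1.closure_genericPoint (isClosed_of_mem_irreducibleComponents Z hZ)

theorem exists_maximal_specializes {α : Type*} [TopologicalSpace α] [QuasiSober α] [T0Space α] (z : α) :
    ∃ x, IsMaximalPt x ∧ x ⤳ z := by
  obtain ⟨x, hx, hcl⟩ := exists_generic_component (irreducibleComponent_mem_irreducibleComponents z)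
  exact ⟨x, hx, specializes_iff_mem_closure.mpr (hcl.ge mem_irreducibleComponent)⟩

variable (k : Type u) [Field k] (X : Scheme.{u}) [X.Over (Spec (CommRingCat.of k))] (K : Type u) [Field K] [Algebra k K]

theorem flat_bcFst : Flat (Curv2.bcFst k X K) := by
  haveI : Flat (Spec.map (CommRingCat.ofHom (algebraMap k K))) := by
    rw [HasRingHomProperty.Spec_iff (P := @Flat)]
    exact RingHom.flat_algebraMap_iff.mpr inferInstance
  exact MorphismProperty.pullback_fst _ _ inferInstance

theorem isMaximalPt_bcFst {z : ↥(Curv2.bc k X K)} (hz : IsMaximalPt z) : IsMaximalPt (Curv2.bcFst k X K z) := by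
  intro y hy
  haveI := flat_bcFst k X K
  obtain ⟨z', h1, rfl⟩ := exists_specializes (Curv2.bcFst k X K) hy
  rw [hz z' h1]

theorem preimage_closure {x : X} : Curv2.bcFst k X K ⁻¹' closure {x} = closure (Curv2.bcFst k X K ⁻¹' {x}) := by
  haveI := universallyOpen_fst (X ↘ Spec (CommRingCat.of k)) K
  exact (Curv2.bcFst k X K).isOpenMap.preimage_closure_eq_closure_preimage (Curv2.bcFst k X K).continuous _

theorem image_closure [Algebra.IsAlgebraic k K] (z : ↥(Curv2.bc k X K)) :
    Curv2.bcFst k X K '' closure {z} = closure {Curv2.bcFst k X K z} := by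
  haveI := isIntegralHom_fst (X ↘ Spec (CommRingCat.of k)) K
  rw [← (Curv2.bcFst k X K).isClosedMap.closure_image_eq_of_continuous (Curv2.bcFst k X K).continuous, Set.image_singleton]

theorem galAct_image_closure (σ : K ≃ₐ[k] K) (z : ↥(Curv2.bc k X K)) :
    Curv2.galAct k X K σ '' closure {z} = closure {Curv2.galAct k X K σ z} := by
  haveI := BcField.isIso_galAct k X K σ
  rw [show (Curv2.galAct k X K σ : Curv2.bc k X K → Curv2.bc k X K) '' closure {z} = _ from
    (Curv2.galAct k X K σ).homeomorph.image_closure {z}, Set.image_singleton]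
  rfl

theorem isMaximalPt_galAct (σ : K ≃ₐ[k] K) {z : ↥(Curv2.bc k X K)} (hz : IsMaximalPt z) :
    IsMaximalPt (Curv2.galAct k X K σ z) := by
  haveI := BcField.isIso_galAct k X K σ
  intro y hy
  obtain ⟨w, rfl⟩ := (Curv2.galAct k X K σ).surjective y
  rw [hz w ((Curv2.galAct k X K σ).isEmbedding.isInducing.specializes_iff.mp hy)]

end Groth.Agent.GeomIrr
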