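import Groth.Agent.Lib.GeomIrr18.Top
import Groth.Agent.Lib.BcField18.Galois
import Mathlib.FieldTheory.Galois.Basic
import Mathlib.LinearAlgebra.TensorProduct.Finiteness

/-!
Criteria through finite separable extensions.
-/

universe u

open CategoryTheory Limits AlgebraicGeometry TensorProduct

namespace Groth.Agent.GeomIrr

variable (k : Type u) [Field k] (X : Scheme.{u}) [X.Over (Spec (CommRingCat.of k))]
  (K : Type u) [Field K] [Algebra k K]

/-- A subset of the base change which is stable under the automorphisms fixing the given elements. -/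
def FixedBy (s : Set K) (S : Set ↥(Curv2.bc k X K)) : Prop :=
  ∀ σ : K ≃ₐ[k] K, (∀ c ∈ s, σ c = c) → ∀ z, z ∈ S ↔ Curv2.galAct k X K σ z ∈ S

variable {k X K}

theorem FixedBy.mono {s t : Set K} {S : Set ↥(Curv2.bc k X K)} (h : FixedBy k X K s S) (hst : s ⊆ t) : FixedBy k X K t S :=
  fun σ hσ => h σ fun c hc => hσ c (hst hc)

/-- Opens are unions of opens stable under the automorphisms fixing finitely many elements. -/
theorem exists_fixedBy {O : Set ↥(Curv2.bc k X K)} (hO : IsOpen O) {z : ↥(Curv2.bc k X K)} (hz : z ∈ O) :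
    ∃ (s : Finset K) (D : Set ↥(Curv2.bc k X K)), IsOpen D ∧ z ∈ D ∧ D ⊆ O ∧ FixedBy k X K (s : Set K) D := by
  classical
  let f := X ↘ Spec (CommRingCat.of k)
  let g := Spec.map (CommRingCat.ofHom (algebraMap k K))
  obtain ⟨W, hW, hzW, -⟩ := exists_isAffineOpen_mem_and_subset (U := (⊤ : X.Opens)) (x := Curv2.bcFst k X K z) trivial
  letI : Algebra k Γ(X, W) := (Spec.preimage (hW.fromSpec ≫ f)).hom.toAlgebra
  have hA : Spec.map (CommRingCat.ofHom (algebraMap k Γ(X, W))) = hW.fromSpec ≫ f := Spec.map_preimage _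
  obtain ⟨q, hq, hqsnd, hqr, hqi⟩ := exists_bcMap f g hW.fromSpec
  haveI := hqi inferInstance
  obtain ⟨ι, hpre, hfst, hsnd, hιr⟩ : ∃ ι : Spec (CommRingCat.of (Γ(X, W) ⊗[k] K)) ⟶ Curv2.bc k X K,
      IsPreimmersion ι ∧
      ι ≫ Curv2.bcFst k X K = Spec.map (CommRingCat.ofHom Algebra.TensorProduct.includeLeftRingHom) ≫ hW.fromSpec ∧
      ι ≫ Curv2.bcSnd k X K = Spec.map (CommRingCat.ofHom (R := K) (S := Γ(X, W) ⊗[k] K)
        (Algebra.TensorProduct.includeRight : K →ₐ[k] Γ(X, W) ⊗[k] K).toRingHom) ∧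
      Set.range ι = Curv2.bcFst k X K ⁻¹' (W : Set X) := by
    have hc : ∀ (a b : Spec Γ(X, W) ⟶ Spec (CommRingCat.of k)) (h : a = b),
        (pullback.congrHom (g₁ := g) h rfl).hom ≫ pullback.fst b g = pullback.fst a g ∧
        (pullback.congrHom (g₁ := g) h rfl).hom ≫ pullback.snd b g = pullback.snd a g := by
      rintro a _ rfl
      simp
    obtain ⟨hc1, hc2⟩ := hc _ _ hA
    let e : Spec (CommRingCat.of (Γ(X, W) ⊗[k] K)) ⟶ pullback (hW.fromSpec ≫ f) g :=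
      (pullbackSpecIso k Γ(X, W) K).inv ≫ (pullback.congrHom hA rfl).hom
    haveI : IsIso e := inferInstance
    refine ⟨e ≫ q, inferInstance, ?_, ?_, ?_⟩
    · rw [Category.assoc]
      erw [hq]
      rw [← Category.assoc, Category.assoc (pullbackSpecIso k Γ(X, W) K).inv, hc1, pullbackSpecIso_inv_fst]
    · rw [Category.assoc]
      erw [hqsnd]
      rw [Category.assoc, hc2, pullbackSpecIso_inv_snd]
      rfl
    · rw [show Set.range (e ≫ q) = Set.range q from e.surjective.range_comp q, hqr, hW.range_fromSpec]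
  haveI := hpre
  have hcomm : ∀ σ : K ≃ₐ[k] K, ι ≫ Curv2.galAct k X K σ =
      Spec.map (CommRingCat.ofHom (Algebra.TensorProduct.map (AlgHom.id k Γ(X, W)) (σ : K →ₐ[k] K)).toRingHom) ≫ ι := by
    intro σ
    refine pullback.hom_ext ?_ ?_
    · rw [Category.assoc, BcField.galAct_fst, Category.assoc, hfst, ← Category.assoc, ← Spec.map_comp, ← CommRingCat.ofHom_comp]
      congr 3
      ext a
      simp
    · rw [Category.assoc, BcField.galAct_snd, ← Category.assoc, hsnd, Category.assoc, hsnd, ← Spec.map_comp, ← Spec.map_comp,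
        ← CommRingCat.ofHom_comp, ← CommRingCat.ofHom_comp]
      congr 2
  obtain ⟨x, rfl⟩ : z ∈ Set.range ι := hιr.ge hzW
  obtain ⟨_, ⟨_, ⟨b, rfl⟩, rfl⟩, hxb, hbO⟩ := PrimeSpectrum.isBasis_basic_opens.exists_subset_of_mem_open
    (show x ∈ ι ⁻¹' O from hz) (hO.preimage ι.continuous)
  obtain ⟨T, rfl⟩ := TensorProduct.exists_finset b
  have hopen : IsOpen (ι '' (PrimeSpectrum.basicOpen (∑ i ∈ T, i.1 ⊗ₜ[k] i.2) : Set (PrimeSpectrum _))) := by
    obtain ⟨O', hO', he⟩ := ι.isEmbedding.isOpen_iff.mp (PrimeSpectrum.basicOpen (∑ i ∈ T, i.1 ⊗ₜ[k] i.2)).isOpen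
    rw [← he, Set.image_preimage_eq_inter_range, hιr]
    exact hO'.inter (W.isOpen.preimage (Curv2.bcFst k X K).continuous)
  refine ⟨T.image Prod.snd, ι '' (PrimeSpectrum.basicOpen (∑ i ∈ T, i.1 ⊗ₜ[k] i.2) : Set (PrimeSpectrum _)), hopen,
    ⟨x, hxb, rfl⟩, Set.image_subset_iff.mpr hbO, fun σ hσ w => ?_⟩
  let τ := (Algebra.TensorProduct.map (AlgHom.id k Γ(X, W)) (σ : K →ₐ[k] K))
  have hfix : τ (∑ i ∈ T, i.1 ⊗ₜ[k] i.2) = ∑ i ∈ T, i.1 ⊗ₜ[k] i.2 := by
    rw [map_sum]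
    refine Finset.sum_congr rfl fun i hi => ?_
    simp [τ, hσ i.2 (Finset.mem_coe.mpr (Finset.mem_image_of_mem _ hi))]
  haveI := BcField.isIso_galAct k X K σ
  have key : ∀ y, Spec.map (CommRingCat.ofHom τ.toRingHom) y ∈ (PrimeSpectrum.basicOpen (∑ i ∈ T, i.1 ⊗ₜ[k] i.2) : Set (PrimeSpectrum _)) ↔
      y ∈ (PrimeSpectrum.basicOpen (∑ i ∈ T, i.1 ⊗ₜ[k] i.2) : Set (PrimeSpectrum _)) := fun y => by
    change ¬ (τ (∑ i ∈ T, i.1 ⊗ₜ[k] i.2) ∈ y.asIdeal) ↔ _
    rw [hfix]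
    rfl
  have happ : ∀ y, Curv2.galAct k X K σ (ι y) = ι (Spec.map (CommRingCat.ofHom τ.toRingHom) y) := fun y =>
    congrArg (fun φ : _ ⟶ Curv2.bc k X K => φ y) (hcomm σ)
  constructor
  · rintro ⟨y, hy, rfl⟩
    exact ⟨_, (key y).mpr hy, (happ y).symm⟩
  · rintro ⟨y, hy, hyw⟩
    obtain ⟨w', rfl⟩ : w ∈ Set.range ι := hιr.ge (by
      change Curv2.bcFst k X K w ∈ W
      rw [← BcField.bcFst_galAct_apply k X K σ, ← hyw]
      exact hιr.le ⟨y, rfl⟩)
    rw [happ] at hyw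
    exact ⟨w', (key w').mp (ι.isEmbedding.injective hyw ▸ hy), rfl⟩

end Groth.Agent.GeomIrr
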