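import Mathlib.RingTheory.TensorProduct.Free
import Mathlib.RingTheory.Jacobson.Ring
import Mathlib.RingTheory.Flat.Basic
import Mathlib.RingTheory.FiniteType
import Mathlib.FieldTheory.IsAlgClosed.Basic
import Mathlib.FieldTheory.IsAlgClosed.AlgebraicClosure
import Mathlib.FieldTheory.PurelyInseparable.Basic
import Mathlib.RingTheory.Spectrum.Prime.Topology

/-!
Tensor products over algebraically and separably closed fields.
-/

universe u

open TensorProduct

namespace Groth.Agent.GeomIrr

section algClosed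

variable {k : Type u} [Field k] [IsAlgClosed k] {A B : Type u} [CommRing A] [CommRing B] [Algebra k A] [Algebra k B]

/-- A finitely generated domain over an algebraically closed field has enough rational points. -/
theorem eq_zero_of_forall_algHom [IsDomain A] [Algebra.FiniteType k A] {a : A}
    (h : ∀ φ : A →ₐ[k] k, φ a = 0) : a = 0 := by
  haveI : IsJacobsonRing A := isJacobsonRing_of_finiteType (A := k)
  have hj : (⊥ : Ideal A).jacobson = ⊥ := IsJacobsonRing.out inferInstance (inferInstance : (⊥ : Ideal A).IsPrime).isRadical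
  rw [← Ideal.mem_bot, ← hj, Ideal.jacobson, Submodule.mem_sInf]
  rintro m ⟨-, hm⟩
  haveI := hm
  letI := Ideal.Quotient.field m
  haveI : Algebra.FiniteType k (A ⧸ m) :=
    Algebra.FiniteType.of_surjective (Ideal.Quotient.mkₐ k m) Ideal.Quotient.mk_surjective
  haveI : Module.Finite k (A ⧸ m) := finite_of_finite_type_of_isJacobsonRing k (A ⧸ m)
  let e : k ≃ₐ[k] A ⧸ m := AlgEquiv.ofBijective (Algebra.ofId k (A ⧸ m))
    IsAlgClosed.algebraMap_bijective_of_isIntegral
  have h1 := h (e.symm.toAlgHom.comp (Ideal.Quotient.mkₐ k m))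
  exact Ideal.Quotient.eq_zero_iff_mem.mp ((map_eq_zero_iff _ e.symm.injective).mp h1)

variable (A B) in
/-- Over an algebraically closed field a tensor product of domains is a domain. -/
theorem isDomain_tensor [IsDomain A] [IsDomain B] : IsDomain (A ⊗[k] B) := by
  classical
  haveI : Nontrivial (A ⊗[k] B) := Algebra.TensorProduct.nontrivial_of_algebraMap_injective_of_flat_left k A B
    (algebraMap k B).injective
  let b := Module.Basis.ofVectorSpace k B
  let bA := Algebra.TensorProduct.basis A b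
  suffices NoZeroDivisors (A ⊗[k] B) from NoZeroDivisors.to_isDomain _
  refine ⟨fun {x y} hxy => ?_⟩
  let c := bA.repr x
  let d := bA.repr y
  let A₀ := Algebra.adjoin k ((c.frange ∪ d.frange : Finset A) : Set A)
  haveI : Algebra.FiniteType k A₀ := Algebra.FiniteType.adjoin_of_finite (Finset.finite_toSet _)
  have hc : ∀ i, c i ∈ A₀ := fun i => by
    by_cases hi : c i = 0
    · rw [hi]; exact A₀.zero_mem
    · exact Algebra.subset_adjoin (Finset.mem_coe.mpr (Finset.mem_union_left _ (Finsupp.mem_frange.mpr ⟨hi, i, rfl⟩)))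
  have hd : ∀ i, d i ∈ A₀ := fun i => by
    by_cases hi : d i = 0
    · rw [hi]; exact A₀.zero_mem
    · exact Algebra.subset_adjoin (Finset.mem_coe.mpr (Finset.mem_union_right _ (Finsupp.mem_frange.mpr ⟨hi, i, rfl⟩)))
  let x₀ : A₀ ⊗[k] B := ∑ i ∈ c.support, (⟨c i, hc i⟩ : A₀) ⊗ₜ[k] b i
  let y₀ : A₀ ⊗[k] B := ∑ i ∈ d.support, (⟨d i, hd i⟩ : A₀) ⊗ₜ[k] b i
  let ι : A₀ ⊗[k] B →ₐ[k] A ⊗[k] B := Algebra.TensorProduct.map A₀.val (AlgHom.id k B)
  have hι : Function.Injective ι :=
    Module.Flat.rTensor_preserves_injective_linearMap (M := B) A₀.val.toLinearMap Subtype.val_injective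
  have hrep : ∀ (z : A ⊗[k] B) (hz : ∀ i, bA.repr z i ∈ A₀),
      ι (∑ i ∈ (bA.repr z).support, (⟨bA.repr z i, hz i⟩ : A₀) ⊗ₜ[k] b i) = z := by
    intro z hz
    conv_rhs => rw [← bA.linearCombination_repr z, Finsupp.linearCombination_apply, Finsupp.sum]
    rw [map_sum]
    refine Finset.sum_congr rfl fun i _ => ?_
    simp [ι, bA, Algebra.TensorProduct.basis_apply, TensorProduct.smul_tmul']
  have hx : ι x₀ = x := hrep x hc
  have hy : ι y₀ = y := hrep y hd
  have h0 : x₀ * y₀ = 0 := hι (by rw [map_mul, hx, hy, hxy, map_zero])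
  by_contra hne
  push Not at hne
  obtain ⟨i, hi⟩ : ∃ i, c i ≠ 0 := by
    by_contra hc0; push Not at hc0
    exact hne.1 (bA.repr.map_eq_zero_iff.mp (Finsupp.ext hc0))
  obtain ⟨j, hj⟩ : ∃ j, d j ≠ 0 := by
    by_contra hd0; push Not at hd0
    exact hne.2 (bA.repr.map_eq_zero_iff.mp (Finsupp.ext hd0))
  refine mul_ne_zero hi hj ?_
  have h1 : (⟨c i, hc i⟩ : A₀) * ⟨d j, hd j⟩ = 0 := by
    refine eq_zero_of_forall_algHom (k := k) fun φ => ?_
    let ψ : A₀ ⊗[k] B →ₐ[k] B := Algebra.TensorProduct.lift ((Algebra.ofId k B).comp φ) (AlgHom.id k B) (fun _ _ => Commute.all _ _)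
    have h2 : ψ x₀ * ψ y₀ = 0 := by rw [← map_mul, h0, map_zero]
    have key : ∀ (e : _ →₀ A) (he : ∀ i, e i ∈ A₀),
        ψ (∑ i ∈ e.support, (⟨e i, he i⟩ : A₀) ⊗ₜ[k] b i) = 0 → ∀ i, φ ⟨e i, he i⟩ = 0 := by
      intro e he h i
      by_cases hi : i ∈ e.support
      · refine linearIndependent_iff'.mp b.linearIndependent e.support (fun i => φ ⟨e i, he i⟩) (h ▸ ?_) i hi
        rw [map_sum]
        exact Finset.sum_congr rfl fun l _ => by simp [ψ, Algebra.smul_def]
      · rw [show (⟨e i, he i⟩ : A₀) = 0 from Subtype.ext (Finsupp.notMem_support_iff.mp hi), map_zero]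
    rw [map_mul]
    rcases mul_eq_zero.mp h2 with h | h
    · rw [key c hc h i, zero_mul]
    · rw [key d hd h j, mul_zero]
  exact congrArg Subtype.val h1

end algClosed

/-- Two fields over a separably closed field have a tensor product with irreducible spectrum. -/
theorem irreducibleSpace_tensor_field {k : Type u} [Field k] [IsSepClosed k] (K L : Type u) [Field K] [Field L]
    [Algebra k K] [Algebra k L] : IrreducibleSpace (PrimeSpectrum (K ⊗[k] L)) := by
  let kb := AlgebraicClosure k
  let Kb := AlgebraicClosure K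
  let Lb := AlgebraicClosure L
  letI : Algebra kb Kb := (IsAlgClosed.lift (R := k) (S := kb) (M := Kb)).toAlgebra
  letI : Algebra kb Lb := (IsAlgClosed.lift (R := k) (S := kb) (M := Lb)).toAlgebra
  haveI : IsScalarTower k kb Kb := IsScalarTower.of_algebraMap_eq' (IsAlgClosed.lift (R := k) (S := kb) (M := Kb)).comp_algebraMap.symm
  haveI : IsScalarTower k kb Lb := IsScalarTower.of_algebraMap_eq' (IsAlgClosed.lift (R := k) (S := kb) (M := Lb)).comp_algebraMap.symm
  haveI := isDomain_tensor (k := kb) Kb Lb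
  let q : Kb ⊗[k] Lb →ₐ[k] Kb ⊗[kb] Lb := Algebra.TensorProduct.lift
    ((Algebra.TensorProduct.includeLeft : Kb →ₐ[kb] Kb ⊗[kb] Lb).restrictScalars k)
    ((Algebra.TensorProduct.includeRight : Lb →ₐ[kb] Kb ⊗[kb] Lb).restrictScalars k) (fun _ _ => Commute.all _ _)
  have hq : Function.Surjective (PrimeSpectrum.comap q.toRingHom) := by
    intro P
    let F := P.asIdeal.ResidueField
    let π : Kb ⊗[k] Lb →ₐ[k] F := IsScalarTower.toAlgHom k (Kb ⊗[k] Lb) F
    let f₁ : Kb →ₐ[k] F := π.comp Algebra.TensorProduct.includeLeft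
    let f₂ : Lb →ₐ[k] F := π.comp Algebra.TensorProduct.includeRight
    have hag : f₁.comp (IsScalarTower.toAlgHom k kb Kb) = f₂.comp (IsScalarTower.toAlgHom k kb Lb) :=
      Subsingleton.elim _ _
    letI : Algebra kb F := (f₁.comp (IsScalarTower.toAlgHom k kb Kb)).toRingHom.toAlgebra
    haveI : IsScalarTower k kb F := IsScalarTower.of_algebraMap_eq fun c => ((f₁.comp (IsScalarTower.toAlgHom k kb Kb)).commutes c).symm
    let g₁ : Kb →ₐ[kb] F := { f₁ with commutes' := fun c => rfl }
    let g₂ : Lb →ₐ[kb] F := { f₂ with commutes' := fun c => (DFunLike.congr_fun hag c).symm }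
    let G : Kb ⊗[kb] Lb →ₐ[kb] F := Algebra.TensorProduct.productMap g₁ g₂
    have hG : G.toRingHom.comp q.toRingHom = π.toRingHom := by
      have : (G.restrictScalars k).comp q = π := by
        apply Algebra.TensorProduct.ext'
        intro a b
        simp [G, q, g₁, g₂, f₁, f₂, ← map_mul]
      exact congrArg AlgHom.toRingHom this
    refine ⟨⟨RingHom.ker G.toRingHom, RingHom.ker_isPrime _⟩, PrimeSpectrum.ext ?_⟩
    change Ideal.comap q.toRingHom (RingHom.ker G.toRingHom) = P.asIdeal
    rw [RingHom.comap_ker, hG]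
    exact Ideal.ker_algebraMap_residueField P.asIdeal
  let ι : K ⊗[k] L →ₐ[k] Kb ⊗[k] Lb := Algebra.TensorProduct.map (IsScalarTower.toAlgHom k K Kb) (IsScalarTower.toAlgHom k L Lb)
  have hι : Function.Injective ι := by
    have h1 := Module.Flat.rTensor_preserves_injective_linearMap (M := L) (IsScalarTower.toAlgHom k K Kb).toLinearMap (algebraMap K Kb).injective
    have h2 := Module.Flat.lTensor_preserves_injective_linearMap (M := Kb) (IsScalarTower.toAlgHom k L Lb).toLinearMap (algebraMap L Lb).injective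
    have := h2.comp h1
    rwa [← LinearMap.coe_comp, LinearMap.lTensor_comp_rTensor] at this
  have hd : DenseRange (PrimeSpectrum.comap ι.toRingHom) := by
    rw [PrimeSpectrum.denseRange_comap_iff_ker_le_nilRadical, (RingHom.injective_iff_ker_eq_bot ι.toRingHom).1 hι]
    exact bot_le
  refine (irreducibleSpace_def _).mpr ?_
  change IsIrreducible (Set.univ : Set (PrimeSpectrum (K ⊗[k] L)))
  rw [← hd.closure_range, ← Set.image_univ, ← hq.range_eq, ← Set.range_comp, ← Set.image_univ]
  exact ((IrreducibleSpace.isIrreducible_univ _).image _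
    ((PrimeSpectrum.continuous_comap _).comp (PrimeSpectrum.continuous_comap _)).continuousOn).closure

end Groth.Agent.GeomIrr
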