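import Groth.Agent.Lib.GeomIrr18.FinCrit
import Groth.Agent.Lib.GeomIrr18.Top
import Mathlib.AlgebraicGeometry.Morphisms.Finite
import Mathlib.AlgebraicGeometry.Fiber
import Mathlib.AlgebraicGeometry.Morphisms.QuasiFinite

/-!
Connected components of a base change to the separable closure surject.
-/

universe u

open CategoryTheory Limits AlgebraicGeometry

namespace Groth.Agent.GeomIrr

/-- Over a connected space a closed, open map with a finite fibre has finitely many clopen subsets. -/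
theorem finite_clopens {α β : Type*} [TopologicalSpace α] [TopologicalSpace β] [ConnectedSpace β] (f : α → β)
    (hc : IsClosedMap f) (ho : IsOpenMap f) (b : β) (hb : (f ⁻¹' {b}).Finite) : {U : Set α | IsClopen U}.Finite := by
  refine Set.Finite.of_finite_image (f := fun U => U ∩ f ⁻¹' {b}) (hb.finite_subsets.subset ?_) ?_
  · rintro _ ⟨U, -, rfl⟩
    exact Set.inter_subset_right
  · intro U hU V hV h
    have key : ∀ U V : Set α, IsClopen U → IsClopen V → U ∩ f ⁻¹' {b} = V ∩ f ⁻¹' {b} → U ⊆ V := by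
      intro U V hU hV h a ha
      by_contra hn
      have h1 : f '' (U \ V) = Set.univ := IsClopen.eq_univ ⟨hc _ (hU.diff hV).1, ho _ (hU.diff hV).2⟩ ⟨f a, a, ⟨ha, hn⟩, rfl⟩
      obtain ⟨c, hc', hcb⟩ := h1.ge (Set.mem_univ b)
      exact hc'.2 (h.le ⟨hc'.1, hcb⟩).1
    exact subset_antisymm (key U V hU hV h) (key V U hV hU h.symm)

variable (k : Type u) [Field k] (X : Scheme.{u}) [X.Over (Spec (CommRingCat.of k))]

/-- The quasi-component of a point. -/
def quasiComp {α : Type*} [TopologicalSpace α] (z : α) : Set α := ⋂₀ {U | IsClopen U ∧ z ∈ U}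

theorem mem_quasiComp {α : Type*} [TopologicalSpace α] (z : α) : z ∈ quasiComp z := fun _ h => h.2

theorem isClosed_quasiComp {α : Type*} [TopologicalSpace α] (z : α) : IsClosed (quasiComp z) :=
  isClosed_sInter fun _ h => h.1.1

theorem connectedComponent_subset_quasiComp {α : Type*} [TopologicalSpace α] (z : α) :
    connectedComponent z ⊆ quasiComp z :=
  fun _ hw _ h => h.1.connectedComponent_subset h.2 hw

/-- In the base change of a connected scheme to the separable closure the connected components surject. -/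
theorem image_connectedComponent_eq_univ [ConnectedSpace X] (z₀ : ↥(Curv2.bc k X (SeparableClosure k))) :
    Curv2.bcFst k X (SeparableClosure k) '' connectedComponent z₀ = Set.univ := by
  classical
  let K := SeparableClosure k
  let π := Curv2.bcFst k X K
  haveI := isIntegralHom_fst (X ↘ Spec (CommRingCat.of k)) K
  haveI := universallyOpen_fst (X ↘ Spec (CommRingCat.of k)) K
  let Q := quasiComp z₀
  -- a saturated open has all its values on `Q` near a point of `Q`
  have claim : ∀ F : IntermediateField k K, FiniteDimensional k F → ∃ A : Set ↥(Curv2.bc k X F), IsClopen A ∧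
      BcField.bcTrans k X K F z₀ ∈ A ∧ (∀ U : Set ↥(Curv2.bc k X F), IsClopen U → U ⊆ A → U.Nonempty → U = A) ∧
      ∀ w, BcField.bcTrans k X K F w ∈ A → ∃ y ∈ Q, BcField.bcTrans k X K F y = BcField.bcTrans k X K F w := by
    intro F hF
    haveI := hF
    obtain ⟨h1, h2, h3⟩ := bcTrans_props k X K F
    let q := BcField.bcTrans k X K F
    haveI : UniversallyOpen (Curv2.bcFst k X F) := universallyOpen_fst (X ↘ Spec (CommRingCat.of k)) F
    haveI : IsFinite (Curv2.bcFst k X F) := by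
      haveI : IsFinite (Spec.map (CommRingCat.ofHom (algebraMap k F))) := by
        rw [IsFinite.SpecMap_iff]
        exact RingHom.finite_algebraMap.mpr inferInstance
      exact MorphismProperty.pullback_fst _ _ inferInstance
    have hfin := finite_clopens (Curv2.bcFst k X F) (Curv2.bcFst k X F).isClosedMap (Curv2.bcFst k X F).isOpenMap
      (Classical.arbitrary X) ((Curv2.bcFst k X F).finite_preimage_singleton _)
    let S := {U : Set ↥(Curv2.bc k X F) | IsClopen U ∧ q z₀ ∈ U}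
    have hS : S.Finite := hfin.subset fun U h => h.1
    have hA : IsClopen (⋂₀ S) := ⟨isClosed_sInter fun U h => h.1.1, hS.isOpen_sInter fun U h => h.1.2⟩
    refine ⟨⋂₀ S, hA, fun U h => h.2, fun U hU hUA hne => ?_, fun w hw => ?_⟩
    · by_cases hz : q z₀ ∈ U
      · exact subset_antisymm hUA (Set.sInter_subset_of_mem ⟨hU, hz⟩)
      · obtain ⟨u, hu⟩ := hne
        exact absurd hu (hUA hu Uᶜ ⟨hU.compl, hz⟩)
    · let V := {U : Set ↥(Curv2.bc k X K) // IsClopen U ∧ z₀ ∈ U}
      have hne : (q ⁻¹' {q w} ∩ ⋂ U : V, U.1).Nonempty := by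
        refine (q.isCompact_preimage_singleton (q w)).inter_iInter_nonempty _ (fun U => U.2.1.1) fun u => ?_
        have hU : IsClopen (⋂ U ∈ u, U.1) := isClopen_biInter_finset fun U _ => U.2.1
        have hz : z₀ ∈ ⋂ U ∈ u, U.1 := Set.mem_iInter₂.mpr fun U _ => U.2.2
        obtain ⟨y, hy, hyw⟩ := hw (q '' ⋂ U ∈ u, U.1) ⟨⟨q.isClosedMap _ hU.1, q.isOpenMap _ hU.2⟩, z₀, hz, rfl⟩
        exact ⟨y, hyw, hy⟩
      obtain ⟨y, hy, hyQ⟩ := hne
      exact ⟨y, fun U hU => Set.mem_iInter.mp hyQ ⟨U, hU⟩, hy⟩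
  -- the restriction to `Q` is open
  have hopen : ∀ O : Set ↥(Curv2.bc k X K), IsOpen O → IsOpen (π '' (Q ∩ O)) := by
    intro O hO
    rw [isOpen_iff_mem_nhds]
    rintro _ ⟨z, ⟨hzQ, hzO⟩, rfl⟩
    obtain ⟨s, D, hDo, hzD, hDO, hfix⟩ := exists_fixedBy hO hzO
    let F := IntermediateField.adjoin k (s : Set K)
    haveI : FiniteDimensional k F := IntermediateField.finiteDimensional_adjoin fun x _ => Algebra.IsIntegral.isIntegral x
    obtain ⟨A, hA, hzA, -, hAw⟩ := claim F inferInstance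
    let q := BcField.bcTrans k X K F
    have hN : IsOpen (π '' (D ∩ q ⁻¹' A)) := π.isOpenMap _ (hDo.inter (hA.isOpen.preimage q.continuous))
    refine Filter.mem_of_superset (hN.mem_nhds ⟨z, ⟨hzD, hzQ (q ⁻¹' A) ⟨hA.preimage q.continuous, hzA⟩⟩, rfl⟩) ?_
    rintro _ ⟨w, ⟨hwD, hwA⟩, rfl⟩
    obtain ⟨y, hyQ, hyw⟩ := hAw w hwA
    obtain ⟨σ, hσ, rfl⟩ := BcField.exists_galAct_over k X K F (x := w) (y := y) hyw.symm
    refine ⟨_, ⟨hyQ, hDO ((hfix σ (fun c hc => hσ ⟨c, IntermediateField.subset_adjoin k _ hc⟩) w).mp hwD)⟩, ?_⟩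
    exact BcField.bcFst_galAct_apply k X K σ w
  have hsurj : ∀ A : Set ↥(Curv2.bc k X K), IsClosed A → A ⊆ Q → (∃ O, IsOpen O ∧ Q ∩ O = A) → A.Nonempty → π '' A = Set.univ := by
    intro A hA hAQ hO hne
    obtain ⟨O, hO, rfl⟩ := hO
    exact IsClopen.eq_univ ⟨π.isClosedMap _ hA, hopen O hO⟩ (hne.image π)
  have hQ1 : π '' Q = Set.univ := hsurj Q (isClosed_quasiComp z₀) subset_rfl ⟨Set.univ, isOpen_univ, Set.inter_univ _⟩ ⟨z₀, mem_quasiComp z₀⟩
  suffices hconn : _root_.IsPreconnected Q by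
    rw [show connectedComponent z₀ = Q from
      subset_antisymm (connectedComponent_subset_quasiComp z₀) (hconn.subset_connectedComponent (mem_quasiComp z₀))]
    exact hQ1
  refine isPreconnected_closed_iff.mpr fun A B hA hB hAB hneA hneB => ?_
  by_contra hne
  rw [Set.not_nonempty_iff_eq_empty] at hne
  have hdisj : ∀ z ∈ Q, z ∈ A → z ∉ B := fun z hz ha hb => hne.le ⟨hz, ha, hb⟩
  obtain ⟨W, hW, hxW, -⟩ := exists_isAffineOpen_mem_and_subset (U := (⊤ : X.Opens)) (x := Classical.arbitrary X) trivial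
  have hπW : IsCompact (π ⁻¹' W) := QuasiCompact.isCompact_preimage (f := π) _ W.isOpen hW.isCompact
  have hbound : ∀ A B : Set ↥(Curv2.bc k X K), IsClosed A → IsClosed B → Q ⊆ A ∪ B → (∀ z ∈ Q, z ∈ A → z ∉ B) →
      ∃ s : Finset K, ∀ σ : K ≃ₐ[k] K, (∀ c ∈ s, σ c = c) → ∀ z ∈ Q, z ∈ A → π z ∈ W →
        Curv2.galAct k X K σ z ∈ Q → Curv2.galAct k X K σ z ∈ A := by
    intro A B hA hB hAB hdisj
    let C : Set ↥(Curv2.bc k X K) := π ⁻¹' W ∩ (Q ∩ A)
    have hC : IsCompact C := hπW.inter_right ((isClosed_quasiComp z₀).inter hA)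
    choose! s D hDo hzD hDB hD using fun z (hz : z ∈ C) => exists_fixedBy hB.isOpen_compl (hdisj z hz.2.1 hz.2.2)
    obtain ⟨T, hTS, hT, hcov⟩ := hC.elim_finite_subcover_image (b := C) (c := D) hDo (fun z hz => Set.mem_biUnion hz (hzD z hz))
    refine ⟨hT.toFinset.biUnion s, fun σ hσ z hzQ hzA hzW hσQ => ?_⟩
    obtain ⟨w, hw, hzw⟩ := Set.mem_iUnion₂.mp (hcov ⟨hzW, hzQ, hzA⟩)
    refine (hAB hσQ).resolve_right (hDB w (hTS hw) ?_)
    exact (hD w (hTS hw) σ (fun c hc => hσ c (Finset.mem_biUnion.mpr ⟨w, hT.mem_toFinset.mpr hw, hc⟩)) z).mp hzw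
  obtain ⟨s₁, hs₁⟩ := hbound A B hA hB hAB hdisj
  let F := IntermediateField.adjoin k (s₁ : Set K)
  haveI : FiniteDimensional k F := IntermediateField.finiteDimensional_adjoin fun x _ => Algebra.IsIntegral.isIntegral x
  obtain ⟨AF, hAF, hzAF, hatom, hAFw⟩ := claim F inferInstance
  obtain ⟨h1, h2, h3⟩ := bcTrans_props k X K F
  let q := BcField.bcTrans k X K F
  -- `q` separates `A` and `B` on `Q`
  have hsep : ∀ a ∈ Q, ∀ b ∈ Q, a ∈ A → b ∈ B → q a ≠ q b := by
    intro a ha b hb haA hbB hab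
    obtain ⟨σ, hσ, rfl⟩ := BcField.exists_galAct_over k X K F (x := a) (y := b) hab
    haveI := BcField.isIso_galAct k X K σ
    let g := Curv2.galAct k X K σ
    have hQg : ∀ z ∈ Q, g z ∈ Q := by
      intro z hz U hU
      have h1 := ha (g ⁻¹' U) ⟨hU.1.preimage g.continuous, ?_⟩
      · exact hz (g ⁻¹' U) ⟨hU.1.preimage g.continuous, by
          by_contra hn
          exact ha (g ⁻¹' U)ᶜ ⟨(hU.1.preimage g.continuous).compl, hn⟩ h1⟩
      · by_contra hn
        exact ha (g ⁻¹' U)ᶜ ⟨(hU.1.preimage g.continuous).compl, hn⟩ (hb U hU)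
    let D := Q ∩ A ∩ g ⁻¹' B
    have hDc : IsClosed D := ((isClosed_quasiComp z₀).inter hA).inter (hB.preimage g.continuous)
    have hDeq : Q ∩ (Bᶜ ∩ g ⁻¹' Aᶜ) = D := by
      ext z
      constructor
      · rintro ⟨hz, hzB, hzA⟩
        exact ⟨⟨hz, (hAB hz).resolve_right hzB⟩, (hAB (hQg z hz)).resolve_left hzA⟩
      · rintro ⟨⟨hz, hzA⟩, hzB⟩
        exact ⟨hz, hdisj z hz hzA, fun h => hdisj _ (hQg z hz) h hzB⟩
    have hu := hsurj D hDc (fun z hz => hz.1.1)
      ⟨_, hB.isOpen_compl.inter (hA.isOpen_compl.preimage g.continuous), hDeq⟩ ⟨a, ⟨ha, haA⟩, hbB⟩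
    obtain ⟨z, hz, hzx⟩ := hu.ge (Set.mem_univ (Classical.arbitrary X))
    exact hdisj _ (hQg z hz.1.1) (hs₁ σ (fun c hc => hσ ⟨c, IntermediateField.subset_adjoin k _ hc⟩) z hz.1.1 hz.1.2
      (hzx ▸ hxW) (hQg z hz.1.1)) hz.2
  have hQA : ∀ z ∈ Q, q z ∈ AF := fun z hz => hz (q ⁻¹' AF) ⟨hAF.preimage q.continuous, hzAF⟩
  have hcl : ∀ C : Set ↥(Curv2.bc k X K), IsClosed C → IsClosed (q '' (Q ∩ C)) := fun C hC =>
    q.isClosedMap _ ((isClosed_quasiComp z₀).inter hC)
  have heq : q '' (Q ∩ A) = AF ∩ (q '' (Q ∩ B))ᶜ := by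
    ext y
    constructor
    · rintro ⟨a, ⟨ha, haA⟩, rfl⟩
      exact ⟨hQA a ha, fun ⟨b, ⟨hb, hbB⟩, hab⟩ => hsep a ha b hb haA hbB hab.symm⟩
    · rintro ⟨hy, hyB⟩
      obtain ⟨w, rfl⟩ := q.surjective y
      obtain ⟨z, hz, hzw⟩ := hAFw w hy
      exact ⟨z, ⟨hz, (hAB hz).resolve_right fun h => hyB ⟨z, ⟨hz, h⟩, hzw⟩⟩, hzw⟩
  have hclo : IsClopen (q '' (Q ∩ A)) := ⟨hcl A hA, heq ▸ hAF.2.inter (hcl B hB).isOpen_compl⟩
  have hfull := hatom _ hclo (heq.le.trans Set.inter_subset_left) (hneA.image q)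
  obtain ⟨b, hb, hbB⟩ := hneB
  obtain ⟨a, ⟨ha, haA⟩, hab⟩ := hfull.ge (hQA b hb)
  exact hsep a ha b hb haA hbB hab

end Groth.Agent.GeomIrr

namespace Groth.Agent.GeomIrr

/-- In the base change of a connected scheme to any field extension the connected components surject. -/
theorem image_connectedComponent_eq_univ' (k : Type u) [Field k] (X : Scheme.{u}) [X.Over (Spec (CommRingCat.of k))]
    [ConnectedSpace X] (K : Type u) [Field K] [Algebra k K] (z : ↥(Curv2.bc k X K)) :
    Curv2.bcFst k X K '' connectedComponent z = Set.univ := by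
  let f := X ↘ Spec (CommRingCat.of k)
  let Ω := SeparableClosure k
  let sΩ := Spec.map (CommRingCat.ofHom (algebraMap k Ω))
  let sK := Spec.map (CommRingCat.ofHom (algebraMap k K))
  let π := pullback.fst f sΩ
  let L := AlgebraicClosure K
  let j : Ω →ₐ[k] L := IsAlgClosed.lift
  letI : Algebra Ω L := j.toRingHom.toAlgebra
  let tΩ := Spec.map (CommRingCat.ofHom (algebraMap Ω L))
  let tK := Spec.map (CommRingCat.ofHom (algebraMap K L))
  have hΩ : tΩ ≫ sΩ = Spec.map (CommRingCat.ofHom (algebraMap k L)) := by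
    rw [← Spec.map_comp, ← CommRingCat.ofHom_comp]
    exact congrArg (fun φ => Spec.map (CommRingCat.ofHom φ)) j.comp_algebraMap
  have hK : tK ≫ sK = Spec.map (CommRingCat.ofHom (algebraMap k L)) := by
    rw [← Spec.map_comp, ← CommRingCat.ofHom_comp, ← IsScalarTower.algebraMap_eq]
  haveI := geometricallyIrreducible_specMap Ω L
  haveI := geometricallyConnected_of_irreducible tΩ
  haveI : Subsingleton ↥(Spec (CommRingCat.of Ω)) := inferInstanceAs (Subsingleton (PrimeSpectrum Ω))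
  haveI : UniversallyOpen tΩ := inferInstance
  haveI := surjective_specMap Ω L
  haveI := surjective_specMap K L
  let p := pullback.fst (pullback.snd f sΩ) tΩ
  let r : pullback (pullback.snd f sΩ) tΩ ⟶ pullback f sK :=
    (pullbackLeftPullbackSndIso f sΩ tΩ).hom ≫ (pullback.congrHom rfl (hΩ.trans hK.symm)).hom ≫
      (pullbackLeftPullbackSndIso f sK tK).inv ≫ pullback.fst (pullback.snd f sK) tK
  have hr : r ≫ pullback.fst f sK = p ≫ π := by
    have hc : ∀ (a b : Spec (CommRingCat.of L) ⟶ Spec (CommRingCat.of k)) (e : a = b),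
        (pullback.congrHom (f₁ := f) rfl e).hom ≫ pullback.fst f b = pullback.fst f a := by
      rintro a _ rfl
      simp
    simp only [r, p, π, Category.assoc]
    rw [pullbackLeftPullbackSndIso_inv_fst_assoc_aux f sK tK, hc, pullbackLeftPullbackSndIso_hom_fst]
  obtain ⟨w, hw⟩ := Surjective.surj (f := r) z
  let C := connectedComponent (p w)
  have h1 : _root_.IsConnected (p ⁻¹' C) := p.isConnected_preimage p.isOpenMap isConnected_connectedComponent isClosed_connectedComponent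
  have h2 : r '' (p ⁻¹' C) ⊆ connectedComponent z :=
    (h1.image r r.continuous.continuousOn).subset_connectedComponent ⟨w, mem_connectedComponent, hw⟩
  refine Set.eq_univ_of_univ_subset ((image_connectedComponent_eq_univ k X (p w)).symm.le.trans ?_)
  rintro _ ⟨c, hc, rfl⟩
  obtain ⟨v, rfl⟩ := Surjective.surj (f := p) c
  refine ⟨r v, h2 ⟨v, hc, rfl⟩, ?_⟩
  exact congrArg (fun g => g v) hr

end Groth.Agent.GeomIrr
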