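import Groth.Agent.Lib.GeomIrr18.Count
import Groth.Agent.S1583

/-!
A finite separable extension over which the components become geometrically irreducible or connected.
-/

universe u

open CategoryTheory Limits AlgebraicGeometry

namespace Groth.Agent.GeomIrr

section descent

variable {L : Type u} [Field L] {Y : Scheme.{u}} (f : Y ⟶ Spec (CommRingCat.of L))

local notation "spm" K => Spec.map (CommRingCat.ofHom (algebraMap L K))

theorem preimage_roof {Z W V : Scheme.{u}} {p : Z ⟶ W} {r : Z ⟶ V} {a : W ⟶ Y} {b : V ⟶ Y} (h : r ≫ b = p ≫ a) (T : Set Y) :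
    p ⁻¹' (a ⁻¹' T) = r ⁻¹' (b ⁻¹' T) := by
  ext z
  change (p ≫ a) z ∈ T ↔ (r ≫ b) z ∈ T
  rw [h]

/-- Irreducibility of a preimage over one separably closed field suffices. -/
theorem isIrreducible_preimage_of_bc (Ω : Type u) [Field Ω] [Algebra L Ω] [IsSepClosed Ω] {T : Set Y}
    (hT : IsIrreducible (pullback.fst f (spm Ω) ⁻¹' T)) (K : Type u) [Field K] [Algebra L K] :
    IsIrreducible (pullback.fst f (spm K) ⁻¹' T) := by
  obtain ⟨Z, p, r, h, hr, -, hpo, hp, -⟩ := exists_roof f K
  obtain ⟨Z', p', r', h', -, -, -, hp', hΩ⟩ := exists_roof f Ω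
  obtain ⟨hr', hro'⟩ := hΩ inferInstance
  haveI := hr; haveI := hpo; haveI := hp; haveI := hp'; haveI := hr'; haveI := hro'
  have h1 : IsIrreducible (pullback.fst f (spm (SeparableClosure L)) ⁻¹' T) := by
    have := (r'.isIrreducible_preimage r'.isOpenMap hT).image _ p'.continuous.continuousOn
    rwa [← preimage_roof h', Set.image_preimage_eq _ p'.surjective] at this
  have := (p.isIrreducible_preimage p.isOpenMap h1).image _ r.continuous.continuousOn
  rwa [preimage_roof h, Set.image_preimage_eq _ r.surjective] at this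

/-- Connectedness of a preimage over one separably closed field suffices. -/
theorem isConnected_preimage_of_bc (Ω : Type u) [Field Ω] [Algebra L Ω] [IsSepClosed Ω] {T : Set Y}
    (hT : _root_.IsConnected (pullback.fst f (spm Ω) ⁻¹' T)) (K : Type u) [Field K] [Algebra L K] :
    _root_.IsConnected (pullback.fst f (spm K) ⁻¹' T) := by
  obtain ⟨Z, p, r, h, hr, -, hpo, hp, -⟩ := exists_roof f K
  obtain ⟨Z', p', r', h', -, -, -, hp', hΩ⟩ := exists_roof f Ω
  obtain ⟨hr', hro'⟩ := hΩ inferInstance
  haveI := hr; haveI := hpo; haveI := hp; haveI := hp'; haveI := hr'; haveI := hro'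
  haveI := geometricallyConnected_of_irreducible p
  haveI := geometricallyConnected_of_irreducible p'
  haveI := geometricallyConnected_of_irreducible r'
  have h1 : _root_.IsConnected (pullback.fst f (spm (SeparableClosure L)) ⁻¹' T) := by
    have := (isConnected_preimage_of_isOpenMap r'.isOpenMap r'.isConnected_preimage_singleton hT).image _ p'.continuous.continuousOn
    rwa [← preimage_roof h', Set.image_preimage_eq _ p'.surjective] at this
  have := (isConnected_preimage_of_isOpenMap p.isOpenMap p.isConnected_preimage_singleton h1).image _ r.continuous.continuousOn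
  rwa [preimage_roof h, Set.image_preimage_eq _ r.surjective] at this

end descent

variable (k : Type u) [Field k] (X : Scheme.{u}) [X.Over (Spec (CommRingCat.of k))]

/-- The base change of a base change. -/
theorem exists_iso_bc_level (F : IntermediateField k (SeparableClosure k)) :
    ∃ e : Curv2.bc k X (SeparableClosure k) ≅
        pullback (Curv2.bcSnd k X F) (Spec.map (CommRingCat.ofHom (algebraMap F (SeparableClosure k)))),
      e.hom ≫ pullback.fst _ _ = BcField.bcTrans k X (SeparableClosure k) F := by
  let t := Spec.map (CommRingCat.ofHom (algebraMap F (SeparableClosure k)))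
  let gF := Spec.map (CommRingCat.ofHom (algebraMap k F))
  have ht : t ≫ gF = Spec.map (CommRingCat.ofHom (algebraMap k (SeparableClosure k))) := by
    rw [← Spec.map_comp, ← CommRingCat.ofHom_comp, ← IsScalarTower.algebraMap_eq]
  have hP : IsPullback (BcField.bcTrans k X (SeparableClosure k) F) (Curv2.bcSnd k X (SeparableClosure k))
      (pullback.snd (X ↘ Spec (CommRingCat.of k)) gF) t := by
    refine IsPullback.of_right ?_ (pullback.lift_snd _ _ _) (IsPullback.of_hasPullback _ gF)
    rw [ht, show BcField.bcTrans k X (SeparableClosure k) F ≫ pullback.fst _ gF = Curv2.bcFst k X (SeparableClosure k) from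
      BcField.bcTrans_fst k X (SeparableClosure k) F]
    exact IsPullback.of_hasPullback _ _
  exact ⟨hP.isoPullback, hP.isoPullback_hom_fst⟩

/-- If there are finitely many maximal points over the separable closure, a finite level makes all components
geometrically irreducible. -/
theorem exists_level_irreducible (hfin : {z : ↥(Curv2.bc k X (SeparableClosure k)) | IsMaximalPt z}.Finite) :
    ∃ F : IntermediateField k (SeparableClosure k), FiniteDimensional k F ∧
      ∀ (K : Type u) [Field K] [Algebra F K] (T : Set ↥(Curv2.bc k X F)), T ∈ irreducibleComponents ↥(Curv2.bc k X F) →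
        IsIrreducible (pullback.fst (Curv2.bcSnd k X F) (Spec.map (CommRingCat.ofHom (algebraMap F K))) ⁻¹' T) := by
  let Ω := SeparableClosure k
  let π := Curv2.bcFst k X Ω
  obtain ⟨F, hF, -, hinj⟩ := exists_level k X hfin fun z hz => hfin.subset fun w hw => by
    obtain ⟨σ, hσ⟩ := BcField.exists_galAct k X Ω (x := z) (y := w) (show π z = π w from hw.symm)
    exact hσ ▸ isMaximalPt_galAct k X Ω σ hz
  refine ⟨F, hF, fun K _ _ T hT => isIrreducible_preimage_of_bc (Curv2.bcSnd k X F) Ω ?_ K⟩
  obtain ⟨w, hw, rfl⟩ := exists_generic_component hT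
  obtain ⟨hs, ho, -⟩ := bcTrans_props k X Ω F
  let q := BcField.bcTrans k X Ω F
  obtain ⟨z, hz, hzw⟩ := exists_maximal_over q hw
  have h1 : q ⁻¹' closure {w} = closure {z} := by
    rw [q.isOpenMap.preimage_closure_eq_closure_preimage q.continuous,
      show q ⁻¹' {w} = {z} from Set.Subset.antisymm (fun v hv => hinj z hz v (hv.trans hzw.symm)) (Set.singleton_subset_iff.mpr hzw)]
  obtain ⟨e, he⟩ := exists_iso_bc_level k X F
  have h2 := (isIrreducible_singleton (x := z)).closure.image _ e.hom.continuous.continuousOn
  rwa [← h1, show q ⁻¹' closure {w} = e.hom ⁻¹' (pullback.fst (Curv2.bcSnd k X F) (Spec.map (CommRingCat.ofHom (algebraMap F Ω))) ⁻¹' closure {w}) from by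
    rw [← Set.preimage_comp]; exact congrArg (fun g : Curv2.bc k X Ω ⟶ Curv2.bc k X F => g ⁻¹' closure {w}) he.symm,
    Set.image_preimage_eq _ e.hom.surjective] at h2

/-- If finitely many points with finite fibres meet all connected components, a finite level makes all components
geometrically connected. -/
theorem exists_level_connected [Finite (_root_.ConnectedComponents ↥X)]
    (hx : ∀ c : _root_.ConnectedComponents ↥X, ∃ x : X, _root_.ConnectedComponents.mk x = c ∧
      (Curv2.bcFst k X (SeparableClosure k) ⁻¹' {x}).Finite) :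
    ∃ F : IntermediateField k (SeparableClosure k), FiniteDimensional k F ∧
      ∀ (K : Type u) [Field K] [Algebra F K] (x' : ↥(Curv2.bc k X F)),
        _root_.IsConnected (pullback.fst (Curv2.bcSnd k X F) (Spec.map (CommRingCat.ofHom (algebraMap F K))) ⁻¹' connectedComponent x') := by
  let Ω := SeparableClosure k
  let π := Curv2.bcFst k X Ω
  choose x hxc hxfin using hx
  let S := ⋃ c, π ⁻¹' {x c}
  have hS : S.Finite := Set.finite_iUnion hxfin
  obtain ⟨F, hF, hfix, -⟩ := exists_level k X hS fun z hz => by
    obtain ⟨c, hc⟩ := Set.mem_iUnion.mp hz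
    rw [show Curv2.bcFst k X Ω z = x c from hc]
    exact hxfin c
  have hmeet : ∀ w, ∃ z ∈ S, z ∈ connectedComponent w := by
    intro w
    let c := (π w : _root_.ConnectedComponents ↥X)
    have h1 : x c ∈ π '' connectedComponent w := by
      rw [Groth.Agent.S1583.result k X Ω w]
      exact ConnectedComponents.coe_eq_coe'.mp (hxc c)
    obtain ⟨z, hz, hzx⟩ := h1
    exact ⟨z, Set.mem_iUnion.mpr ⟨c, hzx⟩, hz⟩
  haveI := hS.to_subtype
  haveI : Finite (_root_.ConnectedComponents ↥(Curv2.bc k X Ω)) :=
    Finite.of_surjective (fun z : S => (z.1 : _root_.ConnectedComponents _)) fun c => by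
      obtain ⟨w, rfl⟩ := ConnectedComponents.surjective_coe c
      obtain ⟨z, hz, hzw⟩ := hmeet w
      exact ⟨⟨z, hz⟩, ConnectedComponents.coe_eq_coe'.mpr hzw⟩
  refine ⟨F, hF, fun K _ _ x' => isConnected_preimage_of_bc (Curv2.bcSnd k X F) Ω ?_ K⟩
  obtain ⟨hs, ho, hi⟩ := bcTrans_props k X Ω F
  let q := BcField.bcTrans k X Ω F
  obtain ⟨w, rfl⟩ := q.surjective x'
  obtain ⟨z, hz, hzw⟩ := hmeet w
  let C := connectedComponent w
  have hCo : IsOpen C := by
    rw [← isClosed_compl_iff]
    have : Cᶜ = ⋃ c ∈ ({c | c ≠ (w : _root_.ConnectedComponents _)} : Set (_root_.ConnectedComponents ↥(Curv2.bc k X Ω))),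
        ((↑) ⁻¹' {c} : Set ↥(Curv2.bc k X Ω)) := by
      ext v
      simp [C, connectedComponent_eq_iff_mem]
    rw [this]
    refine (Set.toFinite _).isClosed_biUnion fun c _ => ?_
    obtain ⟨v, rfl⟩ := ConnectedComponents.surjective_coe c
    rw [connectedComponents_preimage_singleton]
    exact isClosed_connectedComponent
  have hclop : IsClopen (q '' C) := ⟨q.isClosedMap _ isClosed_connectedComponent, q.isOpenMap _ hCo⟩
  have hcomp : q '' C = connectedComponent (q w) :=
    subset_antisymm (q.continuous.image_connectedComponent_subset w)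
      (hclop.connectedComponent_subset
        ⟨w, mem_connectedComponent, rfl⟩)
  have h1 : q ⁻¹' connectedComponent (q w) = C := by
    refine subset_antisymm (fun v hv => ?_) fun v hv => hcomp.le ⟨v, hv, rfl⟩
    obtain ⟨c, hc, hcv⟩ := hcomp.ge hv
    obtain ⟨σ, hσ, rfl⟩ := BcField.exists_galAct_over k X Ω F (x := c) (y := v) hcv
    let g := Curv2.galAct k X Ω σ
    have h2 : g '' C ⊆ C := by
      rw [show C = connectedComponent z from connectedComponent_eq hzw]
      exact (g.continuous.image_connectedComponent_subset z).trans (by rw [show g z = z from hfix z hz σ hσ])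
    exact h2 ⟨c, hc, rfl⟩
  obtain ⟨e, he⟩ := exists_iso_bc_level k X F
  have h2 : _root_.IsConnected (e.hom '' C) := isConnected_connectedComponent.image _ e.hom.continuous.continuousOn
  rwa [← h1, show q ⁻¹' connectedComponent (q w) =
      e.hom ⁻¹' (pullback.fst (Curv2.bcSnd k X F) (Spec.map (CommRingCat.ofHom (algebraMap F Ω))) ⁻¹' connectedComponent (q w)) from by
    rw [← Set.preimage_comp]; exact congrArg (fun g : Curv2.bc k X Ω ⟶ Curv2.bc k X F => g ⁻¹' connectedComponent (q w)) he.symm,
    Set.image_preimage_eq _ e.hom.surjective] at h2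

end Groth.Agent.GeomIrr
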