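import Groth.Agent.Lib.GeomIrr18.Top
import Groth.Agent.Lib.GeomIrr18.Comp

/-!
Comparing irreducible and connected components of base changes through the separable closure.
-/

universe u

open CategoryTheory Limits AlgebraicGeometry

namespace Groth.Agent.GeomIrr

variable {k : Type u} [Field k] {X : Scheme.{u}} (f : X ⟶ Spec (CommRingCat.of k))

local notation "spm" K => Spec.map (CommRingCat.ofHom (algebraMap k K))

/-- A common cover of a base change and of the base change to the separable closure. -/
theorem exists_roof (K : Type u) [Field K] [Algebra k K] :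
    ∃ (Z : Scheme.{u}) (p : Z ⟶ pullback f (spm (SeparableClosure k))) (r : Z ⟶ pullback f (spm K)),
      r ≫ pullback.fst f (spm K) = p ≫ pullback.fst f (spm (SeparableClosure k)) ∧ Surjective r ∧ Flat r ∧
      UniversallyOpen p ∧ GeometricallyIrreducible p ∧ (IsSepClosed K → GeometricallyIrreducible r ∧ UniversallyOpen r) := by
  let Ω := SeparableClosure k
  let π := pullback.fst f (spm Ω)
  let L := AlgebraicClosure K
  let j : Ω →ₐ[k] L := IsAlgClosed.lift
  letI : Algebra Ω L := j.toRingHom.toAlgebra
  let tΩ := Spec.map (CommRingCat.ofHom (algebraMap Ω L))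
  let tK := Spec.map (CommRingCat.ofHom (algebraMap K L))
  have hΩ : tΩ ≫ (spm Ω) = spm L := by
    rw [← Spec.map_comp, ← CommRingCat.ofHom_comp]
    exact congrArg (fun φ => Spec.map (CommRingCat.ofHom φ)) j.comp_algebraMap
  have hK : tK ≫ (spm K) = spm L := by
    rw [← Spec.map_comp, ← CommRingCat.ofHom_comp, ← IsScalarTower.algebraMap_eq]
  haveI := geometricallyIrreducible_specMap Ω L
  haveI : Subsingleton ↥(Spec (CommRingCat.of Ω)) := inferInstanceAs (Subsingleton (PrimeSpectrum Ω))
  haveI : Subsingleton ↥(Spec (CommRingCat.of K)) := inferInstanceAs (Subsingleton (PrimeSpectrum K))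
  haveI : UniversallyOpen tΩ := inferInstance
  let e : pullback (pullback.snd f (spm Ω)) tΩ ≅ pullback (pullback.snd f (spm K)) tK :=
    pullbackLeftPullbackSndIso f (spm Ω) tΩ ≪≫ pullback.congrHom rfl (hΩ.trans hK.symm) ≪≫
      (pullbackLeftPullbackSndIso f (spm K) tK).symm
  let p := pullback.fst (pullback.snd f (spm Ω)) tΩ
  let r0 := pullback.fst (pullback.snd f (spm K)) tK
  haveI := surjective_specMap K L
  haveI : Flat tK := by
    rw [HasRingHomProperty.Spec_iff (P := @Flat)]
    exact RingHom.flat_algebraMap_iff.mpr inferInstance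
  refine ⟨_, p, e.hom ≫ r0, ?_, ?_, ?_, MorphismProperty.pullback_fst _ _ inferInstance, inferInstance, ?_⟩
  · have hc : ∀ (a b : Spec (CommRingCat.of L) ⟶ Spec (CommRingCat.of k)) (h : a = b),
        (pullback.congrHom (f₁ := f) rfl h).hom ≫ pullback.fst f b = pullback.fst f a := by
      rintro a _ rfl
      simp
    simp only [e, r0, p, Iso.trans_hom, Iso.symm_hom, Category.assoc]
    rw [pullbackLeftPullbackSndIso_inv_fst_assoc_aux f (spm K) tK, hc, pullbackLeftPullbackSndIso_hom_fst]
  · haveI : Surjective r0 := MorphismProperty.pullback_fst _ _ inferInstance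
    infer_instance
  · haveI : Flat r0 := MorphismProperty.pullback_fst _ _ inferInstance
    infer_instance
  · intro hsc
    haveI := hsc
    haveI := geometricallyIrreducible_specMap K L
    haveI : UniversallyOpen tK := inferInstance
    haveI : GeometricallyIrreducible r0 := inferInstance
    haveI : UniversallyOpen r0 := MorphismProperty.pullback_fst _ _ inferInstance
    exact ⟨(MorphismProperty.cancel_left_of_respectsIso @GeometricallyIrreducible e.hom r0).mpr inferInstance, inferInstance⟩

/-- Flat morphisms send maximal points to maximal points. -/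
theorem IsMaximalPt.map {Y Z : Scheme.{u}} (p : Y ⟶ Z) [Flat p] {y : Y} (h : IsMaximalPt y) : IsMaximalPt (p y) := by
  intro z hz
  obtain ⟨y', h1, rfl⟩ := exists_specializes p hz
  rw [h y' h1]

/-- Over a maximal point in the target of a surjective flat morphism lies a maximal point. -/
theorem exists_maximal_over {Y Z : Scheme.{u}} (p : Y ⟶ Z) [Surjective p] {z : Z} (h : IsMaximalPt z) :
    ∃ y, IsMaximalPt y ∧ p y = z := by
  obtain ⟨w, rfl⟩ := p.surjective z
  obtain ⟨y, hy, hyw⟩ := exists_maximal_specializes w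
  exact ⟨y, hy, h _ (hyw.map p.continuous)⟩

/-- A flat surjection surjects on irreducible components. -/
theorem mk_irreducibleComponents_le {Y Z : Scheme.{u}} (p : Y ⟶ Z) [Surjective p] [Flat p] :
    Cardinal.mk ↥(irreducibleComponents ↥Z) ≤ Cardinal.mk ↥(irreducibleComponents ↥Y) := by
  choose g hg hgT using fun T : irreducibleComponents ↥Z => exists_generic_component T.2
  choose y hy hpy using fun T => exists_maximal_over p (hg T)
  refine Cardinal.mk_le_of_injective (f := fun T => (⟨_, closure_mem_of_isMaximalPt (hy T)⟩ : irreducibleComponents ↥Y)) ?_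
  intro T T' h
  have h1 : closure ({y T} : Set ↥Y) = closure {y T'} := congrArg Subtype.val h
  have h2 := (inseparable_iff_closure_eq.mpr h1).eq
  exact Subtype.ext (by rw [← hgT T, ← hgT T', ← hpy T, ← hpy T', h2])

/-- A surjection surjects on connected components. -/
theorem mk_connectedComponents_le {Y Z : Scheme.{u}} (p : Y ⟶ Z) [Surjective p] :
    Cardinal.mk (_root_.ConnectedComponents ↥Z) ≤ Cardinal.mk (_root_.ConnectedComponents ↥Y) := by
  refine Cardinal.mk_le_of_surjective (f := p.continuous.connectedComponentsMap) fun c => ?_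
  obtain ⟨z, rfl⟩ := ConnectedComponents.surjective_coe c
  obtain ⟨y, rfl⟩ := p.surjective z
  exact ⟨(y : _root_.ConnectedComponents ↥Y), rfl⟩

theorem mk_irreducibleComponents_bc_le (K Ω : Type u) [Field K] [Algebra k K] [Field Ω] [Algebra k Ω] [IsSepClosed Ω] :
    Cardinal.mk ↥(irreducibleComponents ↥(pullback f (spm K))) ≤ Cardinal.mk ↥(irreducibleComponents ↥(pullback f (spm Ω))) := by
  obtain ⟨Z, p, r, -, hr, hrf, hpo, hp, -⟩ := exists_roof f K
  obtain ⟨Z', p', r', -, -, -, hpo', hp', hΩ⟩ := exists_roof f Ω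
  obtain ⟨hr', hro'⟩ := hΩ inferInstance
  haveI := hr; haveI := hrf; haveI := hpo; haveI := hp; haveI := hpo'; haveI := hp'; haveI := hr'; haveI := hro'
  calc Cardinal.mk ↥(irreducibleComponents ↥(pullback f (spm K))) ≤ Cardinal.mk ↥(irreducibleComponents ↥Z) := mk_irreducibleComponents_le r
    _ = Cardinal.mk ↥(irreducibleComponents ↥(pullback f (spm (SeparableClosure k)))) := Cardinal.mk_congr (p.irreducibleComponentsEquiv p.isOpenMap)
    _ = Cardinal.mk ↥(irreducibleComponents ↥Z') := (Cardinal.mk_congr (p'.irreducibleComponentsEquiv p'.isOpenMap)).symm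
    _ = _ := Cardinal.mk_congr (r'.irreducibleComponentsEquiv r'.isOpenMap)

theorem mk_connectedComponents_bc_le (K Ω : Type u) [Field K] [Algebra k K] [Field Ω] [Algebra k Ω] [IsSepClosed Ω] :
    Cardinal.mk (_root_.ConnectedComponents ↥(pullback f (spm K))) ≤ Cardinal.mk (_root_.ConnectedComponents ↥(pullback f (spm Ω))) := by
  obtain ⟨Z, p, r, -, hr, -, hpo, hp, -⟩ := exists_roof f K
  obtain ⟨Z', p', r', -, -, -, hpo', hp', hΩ⟩ := exists_roof f Ω
  obtain ⟨hr', hro'⟩ := hΩ inferInstance
  haveI := hr; haveI := hpo; haveI := hp; haveI := hpo'; haveI := hp'; haveI := hr'; haveI := hro'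
  haveI := geometricallyConnected_of_irreducible p
  haveI := geometricallyConnected_of_irreducible p'
  haveI := geometricallyConnected_of_irreducible r'
  calc Cardinal.mk (_root_.ConnectedComponents ↥(pullback f (spm K))) ≤ Cardinal.mk (_root_.ConnectedComponents ↥Z) := mk_connectedComponents_le r
    _ = Cardinal.mk (_root_.ConnectedComponents ↥(pullback f (spm (SeparableClosure k)))) := Cardinal.mk_congr (p.connectedComponentsHomeomorph p.isOpenMap).toEquiv
    _ = Cardinal.mk (_root_.ConnectedComponents ↥Z') := (Cardinal.mk_congr (p'.connectedComponentsHomeomorph p'.isOpenMap).toEquiv).symm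
    _ = _ := Cardinal.mk_congr (r'.connectedComponentsHomeomorph r'.isOpenMap).toEquiv

/-- The image of an irreducible component of a base change is an irreducible component. -/
theorem image_component (K : Type u) [Field K] [Algebra k K] {η : ↥(pullback f (spm K))} (hη : IsMaximalPt η) :
    IsMaximalPt (pullback.fst f (spm K) η) ∧ pullback.fst f (spm K) '' closure {η} = closure {pullback.fst f (spm K) η} := by
  haveI : Flat (spm K) := by
    rw [HasRingHomProperty.Spec_iff (P := @Flat)]
    exact RingHom.flat_algebraMap_iff.mpr inferInstance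
  haveI : Flat (pullback.fst f (spm K)) := MorphismProperty.pullback_fst _ _ inferInstance
  refine ⟨hη.map _, Set.Subset.antisymm ((image_closure_subset_closure_image (pullback.fst f (spm K)).continuous).trans (by rw [Set.image_singleton])) ?_⟩
  obtain ⟨Z, p, r, hpr, hr, hrf, hpo, hp, -⟩ := exists_roof f K
  haveI := hr; haveI := hrf; haveI := hpo; haveI := hp
  haveI := isIntegralHom_fst f (SeparableClosure k)
  obtain ⟨w, hw, hwη⟩ := exists_maximal_over r hη
  have h1 : IsIrreducible (p ⁻¹' closure {p w}) := p.isIrreducible_preimage p.isOpenMap isIrreducible_singleton.closure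
  have h2 : p ⁻¹' closure {p w} ⊆ closure {w} :=
    (closure_mem_of_isMaximalPt hw).2 h1 (isClosed_closure.preimage p.continuous |>.closure_subset_iff.mpr
      (Set.singleton_subset_iff.mpr (subset_closure rfl : p w ∈ closure {p w})))
  have h3 := congrArg (fun g => g w) hpr
  simp only [Scheme.Hom.comp_apply, hwη] at h3
  rintro b hb
  rw [h3, ← Set.image_singleton, (pullback.fst f (spm (SeparableClosure k))).isClosedMap.closure_image_eq_of_continuous
    (pullback.fst f (spm (SeparableClosure k))).continuous] at hb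
  obtain ⟨c, hc, rfl⟩ := hb
  obtain ⟨v, rfl⟩ := p.surjective c
  refine ⟨r v, ?_, congrArg (fun g => g v) hpr⟩
  have h4 := image_closure_subset_closure_image r.continuous (s := {w}) ⟨v, h2 hc, rfl⟩
  rwa [Set.image_singleton, hwη] at h4

/-- Open maps with connected fibres pull connected sets back to connected sets. -/
theorem isConnected_preimage_of_isOpenMap {α β : Type*} [TopologicalSpace α] [TopologicalSpace β] {π : α → β}
    (ho : IsOpenMap π) (hfib : ∀ b, _root_.IsConnected (π ⁻¹' {b})) {Z : Set β} (hZ : _root_.IsConnected Z) :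
    _root_.IsConnected (π ⁻¹' Z) := by
  obtain ⟨b, hb⟩ := hZ.1
  obtain ⟨a, ha⟩ := (hfib b).1
  refine ⟨⟨a, show π a ∈ Z by rw [show π a = b from ha]; exact hb⟩, ?_⟩
  rintro u v hu hv huv ⟨x, hx, hxu⟩ ⟨y, hy, hyv⟩
  obtain ⟨z, hz, ⟨x', hx', hzx⟩, y', hy', hzy⟩ := hZ.2 (π '' u) (π '' v) (ho u hu) (ho v hv) (fun c hc => by
      obtain ⟨c', hc'⟩ := (hfib c).1
      exact (huv (show π c' ∈ Z by rw [show π c' = c from hc']; exact hc)).imp (fun h => ⟨c', h, hc'⟩) (fun h => ⟨c', h, hc'⟩))
    ⟨π x, hx, x, hxu, rfl⟩ ⟨π y, hy, y, hyv, rfl⟩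
  have hsub : π ⁻¹' {z} ⊆ π ⁻¹' Z := Set.preimage_mono (Set.singleton_subset_iff.mpr hz)
  obtain ⟨w, hw, hwuv⟩ := (hfib z).2 u v hu hv (hsub.trans huv) ⟨x', hzx, hx'⟩ ⟨y', hzy, hy'⟩
  exact ⟨w, hsub hw, hwuv⟩

end Groth.Agent.GeomIrr
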