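import Groth.Agent.Lib.GeomIrr18.Fin
import Mathlib.AlgebraicGeometry.Morphisms.Integral

/-!
Connectedness and irreducibility tested on finite separable extensions.
-/

universe u

open CategoryTheory Limits AlgebraicGeometry

namespace Groth.Agent.GeomIrr

variable (k : Type u) [Field k] (X : Scheme.{u}) [X.Over (Spec (CommRingCat.of k))]

theorem bcTrans_props (K : Type u) [Field K] [Algebra k K] [Algebra.IsAlgebraic k K] (F : IntermediateField k K) :
    Surjective (BcField.bcTrans k X K F) ∧ UniversallyOpen (BcField.bcTrans k X K F) ∧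
      IsIntegralHom (BcField.bcTrans k X K F) := by
  let f := X ↘ Spec (CommRingCat.of k)
  let gF := Spec.map (CommRingCat.ofHom (algebraMap k F))
  let t := Spec.map (CommRingCat.ofHom (algebraMap F K))
  have ht : t ≫ gF = Spec.map (CommRingCat.ofHom (algebraMap k K)) := by
    rw [← Spec.map_comp, ← CommRingCat.ofHom_comp, ← IsScalarTower.algebraMap_eq]
  have hP : IsPullback (BcField.bcTrans k X K F) (Curv2.bcSnd k X K) (pullback.snd f gF) t := by
    refine IsPullback.of_right ?_ (pullback.lift_snd _ _ _) (IsPullback.of_hasPullback f gF)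
    rw [ht, show BcField.bcTrans k X K F ≫ pullback.fst f gF = Curv2.bcFst k X K from BcField.bcTrans_fst k X K F]
    exact IsPullback.of_hasPullback _ _
  haveI hs : Surjective t := surjective_specMap F K
  haveI : Subsingleton ↥(Spec (CommRingCat.of F)) := inferInstanceAs (Subsingleton (PrimeSpectrum F))
  have ho : UniversallyOpen t := inferInstance
  have hi : IsIntegralHom t := by
    rw [IsIntegralHom.SpecMap_iff]
    exact algebraMap_isIntegral_iff.mpr ((Algebra.IsAlgebraic.tower_top (K := k) F (A := K)).isIntegral)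
  exact ⟨MorphismProperty.of_isPullback (P := @Surjective) hP.flip hs,
    MorphismProperty.of_isPullback (P := @UniversallyOpen) hP.flip ho,
    MorphismProperty.of_isPullback (P := @IsIntegralHom) hP.flip hi⟩

/-- In a connected scheme every clopen subset over an algebraic extension is defined at a finite level. -/
theorem exists_fixedBy_clopen [ConnectedSpace X] (K : Type u) [Field K] [Algebra k K] [Algebra.IsAlgebraic k K]
    {U : Set ↥(Curv2.bc k X K)} (hU : IsClopen U) : ∃ s : Finset K, FixedBy k X K (s : Set K) U := by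
  classical
  let π := Curv2.bcFst k X K
  haveI := isIntegralHom_fst (X ↘ Spec (CommRingCat.of k)) K
  haveI := universallyOpen_fst (X ↘ Spec (CommRingCat.of k)) K
  obtain ⟨W, hW, hxW, -⟩ := exists_isAffineOpen_mem_and_subset (U := (⊤ : X.Opens)) (x := Classical.arbitrary X) trivial
  let S : Set ↥(Curv2.bc k X K) := U ∩ π ⁻¹' W
  have hSc : IsCompact S := (QuasiCompact.isCompact_preimage (f := π) _ W.isOpen hW.isCompact).inter_left hU.isClosed
  have hSo : IsOpen S := hU.isOpen.inter (W.isOpen.preimage π.continuous)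
  choose! s D hDo hzD hDS hD using fun z (hz : z ∈ S) => exists_fixedBy hSo hz
  obtain ⟨T, hTS, hT, hcov⟩ := hSc.elim_finite_subcover_image (b := S) (c := D) hDo (fun z hz => Set.mem_biUnion hz (hzD z hz))
  refine ⟨hT.toFinset.biUnion s, fun σ hσ z => ?_⟩
  have hS : ∀ z, z ∈ S ↔ Curv2.galAct k X K σ z ∈ S := by
    intro z
    constructor
    · intro hz
      obtain ⟨w, hw, hzw⟩ := Set.mem_iUnion₂.mp (hcov hz)
      exact hDS w (hTS hw) ((hD w (hTS hw) σ (fun c hc => hσ c (Finset.mem_coe.mpr (Finset.mem_biUnion.mpr ⟨w, hT.mem_toFinset.mpr hw, hc⟩))) z).mp hzw)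
    · intro hz
      obtain ⟨w, hw, hzw⟩ := Set.mem_iUnion₂.mp (hcov hz)
      exact hDS w (hTS hw) ((hD w (hTS hw) σ (fun c hc => hσ c (Finset.mem_coe.mpr (Finset.mem_biUnion.mpr ⟨w, hT.mem_toFinset.mpr hw, hc⟩))) z).mpr hzw)
  have key : ∀ D : Set ↥(Curv2.bc k X K), IsClopen D → Disjoint D (π ⁻¹' W) → ∀ z, z ∉ D := by
    intro D hD hdis z hz
    have h1 : π '' D = Set.univ := IsClopen.eq_univ ⟨π.isClosedMap _ hD.1, π.isOpenMap _ hD.2⟩ ⟨π z, z, hz, rfl⟩
    obtain ⟨w, hw, hwx⟩ := h1.ge (Set.mem_univ (Classical.arbitrary X))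
    exact Set.disjoint_left.mp hdis hw (show π w ∈ W from hwx ▸ hxW)
  have hg : IsClopen ((Curv2.galAct k X K σ) ⁻¹' U) := hU.preimage (Curv2.galAct k X K σ).continuous
  constructor
  · intro hz
    by_contra hn
    refine key (U \ (Curv2.galAct k X K σ) ⁻¹' U) (hU.diff hg) (Set.disjoint_left.mpr fun w hw hwW => ?_) z ⟨hz, hn⟩
    exact hw.2 ((hS w).mp ⟨hw.1, hwW⟩).1
  · intro hz
    by_contra hn
    refine key ((Curv2.galAct k X K σ) ⁻¹' U \ U) (hg.diff hU) (Set.disjoint_left.mpr fun w hw hwW => ?_) z ⟨hz, hn⟩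
    refine hw.2 ((hS w).mpr ⟨hw.1, ?_⟩).1
    change π _ ∈ W
    rw [BcField.bcFst_galAct_apply]
    exact hwW

/-- Connectedness descends from all finite separable levels to the separable closure. -/
theorem connectedSpace_bc_separableClosure
    (h : ∀ (k' : Type u) [Field k'] [Algebra k k'] [FiniteDimensional k k'] [Algebra.IsSeparable k k'],
      ConnectedSpace ↥(Curv2.bc k X k')) : ConnectedSpace ↥(Curv2.bc k X (SeparableClosure k)) := by
  classical
  haveI := h k
  haveI := surjective_fst (X ↘ Spec (CommRingCat.of k)) k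
  haveI : ConnectedSpace X := connectedSpace_of_surjective (Curv2.bcFst k X k)
  let K := SeparableClosure k
  haveI := surjective_fst (X ↘ Spec (CommRingCat.of k)) K
  refine connectedSpace_iff_clopen.mpr ⟨⟨((Curv2.bcFst k X K).surjective (Classical.arbitrary X)).choose⟩, fun U hU => ?_⟩
  by_contra hne
  push Not at hne
  obtain ⟨s, hs⟩ := exists_fixedBy_clopen k X K hU
  let F := IntermediateField.adjoin k (s : Set K)
  haveI : FiniteDimensional k F := IntermediateField.finiteDimensional_adjoin fun x _ => Algebra.IsIntegral.isIntegral x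
  haveI := h F
  obtain ⟨h1, h2, h3⟩ := bcTrans_props k X K F
  let q := BcField.bcTrans k X K F
  have hdis : Disjoint (q '' U) (q '' Uᶜ) := by
    rw [Set.disjoint_left]
    rintro _ ⟨u, hu, rfl⟩ ⟨v, hv, hvu⟩
    obtain ⟨σ, hσ, rfl⟩ := BcField.exists_galAct_over k X K F (x := u) (y := v) hvu.symm
    exact hv ((hs σ (fun c hc => hσ ⟨c, IntermediateField.subset_adjoin k _ hc⟩) u).mp hu)
  have hcov : q '' U ∪ q '' Uᶜ = Set.univ := by
    rw [← Set.image_union, Set.union_compl_self, Set.image_univ, q.surjective.range_eq]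
  obtain ⟨hne1, hne2⟩ := hne
  have hcl : IsClopen (q '' U) := ⟨q.isClosedMap _ hU.1, q.isOpenMap _ hU.2⟩
  have hu := hcl.eq_univ (hne1.image q)
  obtain ⟨v, hv⟩ := Set.nonempty_compl.mpr hne2
  exact Set.disjoint_left.mp hdis (hu.ge (Set.mem_univ (q v))) ⟨v, hv, rfl⟩

/-- Irreducibility descends from all finite separable levels to the separable closure. -/
theorem irreducibleSpace_bc_separableClosure
    (h : ∀ (k' : Type u) [Field k'] [Algebra k k'] [FiniteDimensional k k'] [Algebra.IsSeparable k k'],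
      IrreducibleSpace ↥(Curv2.bc k X k')) : IrreducibleSpace ↥(Curv2.bc k X (SeparableClosure k)) := by
  classical
  haveI := h k
  let K := SeparableClosure k
  haveI := surjective_fst (X ↘ Spec (CommRingCat.of k)) K
  haveI : Nonempty ↥(Curv2.bc k X K) :=
    ⟨((Curv2.bcFst k X K).surjective (Curv2.bcFst k X k (Classical.arbitrary ↥(Curv2.bc k X k)))).choose⟩
  haveI : PreirreducibleSpace ↥(Curv2.bc k X K) := ⟨fun O₁ O₂ hO₁ hO₂ hne₁ hne₂ => by
    obtain ⟨a, -, ha⟩ := hne₁
    obtain ⟨b, -, hb⟩ := hne₂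
    obtain ⟨s₁, D₁, hD₁o, haD, hD₁, hf₁⟩ := exists_fixedBy hO₁ ha
    obtain ⟨s₂, D₂, hD₂o, hbD, hD₂, hf₂⟩ := exists_fixedBy hO₂ hb
    let F := IntermediateField.adjoin k ((s₁ ∪ s₂ : Finset K) : Set K)
    haveI : FiniteDimensional k F := IntermediateField.finiteDimensional_adjoin fun x _ => Algebra.IsIntegral.isIntegral x
    haveI := h F
    obtain ⟨h1, h2, h3⟩ := bcTrans_props k X K F
    let q := BcField.bcTrans k X K F
    obtain ⟨_, ⟨u, hu, rfl⟩, v, hv, hvu⟩ := nonempty_preirreducible_inter (q.isOpenMap _ hD₁o) (q.isOpenMap _ hD₂o)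
      ⟨q a, a, haD, rfl⟩ ⟨q b, b, hbD, rfl⟩
    obtain ⟨σ, hσ, rfl⟩ := BcField.exists_galAct_over k X K F (x := u) (y := v) hvu.symm
    refine ⟨Curv2.galAct k X K σ u, trivial, hD₁ ((hf₁ σ (fun c hc => hσ ⟨c, IntermediateField.subset_adjoin k _ ?_⟩) u).mp hu), hD₂ hv⟩
    exact Finset.coe_subset.mpr Finset.subset_union_left hc⟩
  exact ⟨inferInstance⟩

end Groth.Agent.GeomIrr
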