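import Groth.Agent.Lib.GeomIrr18.Scheme
import Mathlib.RingTheory.Spectrum.Prime.RingHom

/-!
Affine schemes and tensor products.
-/

universe u

open CategoryTheory Limits AlgebraicGeometry TensorProduct

namespace Groth.Agent.GeomIrr

variable (k R : Type u) [Field k] [CommRing R] [Algebra k R]

theorem irreducibleSpace_pullback_iff (K : Type u) [Field K] [Algebra k K] :
    IrreducibleSpace ↥(pullback (Spec.map (CommRingCat.ofHom (algebraMap k R))) (Spec.map (CommRingCat.ofHom (algebraMap k K)))) ↔
      IrreducibleSpace (PrimeSpectrum (K ⊗[k] R)) := by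
  refine (((pullbackSymmetry _ _) ≪≫ pullbackSpecIso k K R).hom.homeomorph.irreducibleSpace_iff).trans ?_
  exact Iff.rfl

theorem connectedSpace_pullback_iff (K : Type u) [Field K] [Algebra k K] :
    ConnectedSpace ↥(pullback (Spec.map (CommRingCat.ofHom (algebraMap k R))) (Spec.map (CommRingCat.ofHom (algebraMap k K)))) ↔
      ConnectedSpace (PrimeSpectrum (K ⊗[k] R)) := by
  refine (((pullbackSymmetry _ _) ≪≫ pullbackSpecIso k K R).hom.homeomorph.connectedSpace_iff).trans ?_
  exact Iff.rfl

theorem geometricallyIrreducible_iff_tensor :
    GeometricallyIrreducible (Spec.map (CommRingCat.ofHom (algebraMap k R))) ↔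
      ∀ (K : Type u) [Field K] [Algebra k K], IrreducibleSpace (PrimeSpectrum (K ⊗[k] R)) := by
  rw [geometricallyIrreducible_iff, geometrically_iff_of_commRing_of_isClosedUnderIsomorphisms]
  exact forall_congr' fun K => forall_congr' fun _ => forall_congr' fun _ => irreducibleSpace_pullback_iff k R K

theorem geometricallyConnected_iff_tensor :
    GeometricallyConnected (Spec.map (CommRingCat.ofHom (algebraMap k R))) ↔
      ∀ (K : Type u) [Field K] [Algebra k K], ConnectedSpace (PrimeSpectrum (K ⊗[k] R)) := by
  rw [geometricallyConnected_iff, geometrically_iff_of_commRing_of_isClosedUnderIsomorphisms]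
  exact forall_congr' fun K => forall_congr' fun _ => forall_congr' fun _ => connectedSpace_pullback_iff k R K

variable (S : Type u) [CommRing S] [Algebra k S]

theorem geometricallyIrreducible_includeLeft [GeometricallyIrreducible (Spec.map (CommRingCat.ofHom (algebraMap k S)))] :
    GeometricallyIrreducible (Spec.map (CommRingCat.ofHom (algebraMap R (R ⊗[k] S)))) := by
  rw [← pullbackSpecIso_inv_fst' k R S, MorphismProperty.cancel_left_of_respectsIso @GeometricallyIrreducible]
  infer_instance

theorem geometricallyConnected_includeLeft [GeometricallyConnected (Spec.map (CommRingCat.ofHom (algebraMap k S)))] :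
    GeometricallyConnected (Spec.map (CommRingCat.ofHom (algebraMap R (R ⊗[k] S)))) := by
  rw [← pullbackSpecIso_inv_fst' k R S, MorphismProperty.cancel_left_of_respectsIso @GeometricallyConnected]
  infer_instance

theorem isOpenMap_includeLeft : IsOpenMap (PrimeSpectrum.comap (algebraMap R (R ⊗[k] S))) :=
  PrimeSpectrum.isOpenMap_comap_algebraMap_tensorProduct_of_field

end Groth.Agent.GeomIrr
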