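import Groth.Agent.Lib.GeomIrr18.Roof
import Groth.Agent.Lib.GeomIrr18.FinCrit
import Groth.Agent.Lib.GeomIrr18.Prim
import Mathlib.RingTheory.Etale.Field
import Mathlib.FieldTheory.SeparableClosure

/-!
Counting the points of fibres of a change of the base field.
-/

universe u

open CategoryTheory Limits AlgebraicGeometry TensorProduct

namespace Groth.Agent.GeomIrr

variable {k : Type u} [Field k]

local notation "spm" K => Spec.map (CommRingCat.ofHom (algebraMap k K))

theorem card_primeSpectrum_tensor (Ω : Type u) [Field Ω] [Algebra k Ω] [IsSepClosed Ω] (F : Type u) [Field F]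
    [Algebra k F] [FiniteDimensional k F] [Algebra.IsSeparable k F] :
    Finite (PrimeSpectrum (Ω ⊗[k] F)) ∧ Nat.card (PrimeSpectrum (Ω ⊗[k] F)) = Module.finrank k F := by
  haveI := Algebra.FormallyEtale.of_isSeparable k F
  let e := Algebra.FormallyEtale.equivPiOfIsSepClosed Ω (Ω ⊗[k] F)
  haveI : IsArtinianRing (Ω ⊗[k] F) := isArtinian_of_tower Ω inferInstance
  haveI : Finite (PrimeSpectrum (Ω ⊗[k] F)) := inferInstance
  refine ⟨inferInstance, ?_⟩
  haveI := Fintype.ofFinite (PrimeSpectrum (Ω ⊗[k] F))
  rw [← Module.finrank_baseChange (R := Ω) (S := k) (M' := F), e.toLinearEquiv.finrank_eq, Module.finrank_pi,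
    Nat.card_eq_fintype_card]

theorem isSeparable_mem_range_separableClosure (K : Type u) [Field K] [Algebra k K] (a : K)
    (ha : IsSeparable (separableClosure k K) a) : a ∈ Set.range (algebraMap (separableClosure k K) K) := by
  haveI : Algebra.IsSeparable k (separableClosure k K) := separableClosure.isSeparable k K
  exact ⟨⟨a, mem_separableClosure_iff.mpr (IsSeparable.of_algebra_isSeparable_of_isSeparable k ha)⟩, rfl⟩

/-- The components of a field base changed to a separably closed field. -/
theorem card_components_field (K : Type u) [Field K] [Algebra k K] (Ω : Type u) [Field Ω] [Algebra k Ω] [IsSepClosed Ω]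
    [FiniteDimensional k (separableClosure k K)] :
    Finite ↥(irreducibleComponents ↥(pullback (spm K) (spm Ω))) ∧
      Nat.card ↥(irreducibleComponents ↥(pullback (spm K) (spm Ω))) = Module.finrank k (separableClosure k K) := by
  let F := separableClosure k K
  haveI : Algebra.IsSeparable k F := separableClosure.isSeparable k K
  let a := Spec.map (CommRingCat.ofHom (algebraMap F K))
  have ha : a ≫ (spm F) = spm K := by
    rw [← Spec.map_comp, ← CommRingCat.ofHom_comp, ← IsScalarTower.algebraMap_eq]
  haveI : GeometricallyIrreducible a := geometricallyIrreducible_of_separable (isSeparable_mem_range_separableClosure K)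
  haveI : Subsingleton ↥(Spec (CommRingCat.of F)) := inferInstanceAs (Subsingleton (PrimeSpectrum F))
  haveI : UniversallyOpen a := inferInstance
  let p := pullback.snd a (pullback.fst (spm F) (spm Ω))
  haveI : UniversallyOpen p := MorphismProperty.pullback_snd _ _ inferInstance
  let e := pullbackRightPullbackFstIso (spm F) (spm Ω) a ≪≫ pullback.congrHom ha rfl
  let eF := (pullbackSymmetry (spm F) (spm Ω) ≪≫ pullbackSpecIso k Ω F).hom.homeomorph
  obtain ⟨hfin, hcard⟩ := card_primeSpectrum_tensor (k := k) Ω F
  haveI : IsArtinianRing (Ω ⊗[k] F) := isArtinian_of_tower Ω inferInstance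
  haveI : T1Space (PrimeSpectrum (Ω ⊗[k] F)) := t1Space_iff_specializes_imp_eq.mpr fun {x y} hxy => by
    haveI := x.isPrime
    haveI hm : x.asIdeal.IsMaximal := @IsArtinianRing.isMaximal_of_isPrime (Ω ⊗[k] F) _ x.asIdeal x.isPrime inferInstance
    exact PrimeSpectrum.ext (hm.eq_of_le y.isPrime.ne_top ((PrimeSpectrum.le_iff_specializes x y).mpr hxy))
  haveI : T1Space ↥(Spec (CommRingCat.of (Ω ⊗[k] F))) := inferInstanceAs (T1Space (PrimeSpectrum (Ω ⊗[k] F)))
  haveI : T1Space ↥(pullback (spm F) (spm Ω)) := eF.symm.t1Space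
  haveI : QuasiSober ↥(pullback (spm F) (spm Ω)) := inferInstance
  have hmax : ∀ z : ↥(pullback (spm F) (spm Ω)), IsMaximalPt z := fun z y hy => specializes_iff_eq.mp hy
  let g : ↥(pullback (spm F) (spm Ω)) → ↥(irreducibleComponents ↥(pullback (spm F) (spm Ω))) :=
    fun z => ⟨closure {z}, closure_mem_of_isMaximalPt (hmax z)⟩
  have hg : Function.Bijective g := by
    refine ⟨fun z z' h => ?_, fun T => ?_⟩
    · exact ((inseparable_iff_closure_eq.mpr (congrArg Subtype.val h)).eq)
    · obtain ⟨z, hz, hzT⟩ := exists_generic_component T.2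
      exact ⟨z, Subtype.ext hzT⟩
  haveI : Finite ↥(pullback (spm F) (spm Ω)) :=
    haveI : Finite ↥(Spec (CommRingCat.of (Ω ⊗[k] F))) := hfin
    Finite.of_equiv _ eF.symm.toEquiv
  let p' := e.inv ≫ p
  haveI : GeometricallyIrreducible p' :=
    (MorphismProperty.cancel_left_of_respectsIso @GeometricallyIrreducible e.inv p).mpr inferInstance
  have E := (Equiv.ofBijective g hg).trans (p'.irreducibleComponentsEquiv p'.isOpenMap).symm
  refine ⟨Finite.of_equiv _ E, ?_⟩
  rw [← Nat.card_congr E, Nat.card_congr eF.toEquiv]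
  exact hcard

end Groth.Agent.GeomIrr

namespace Groth.Agent.GeomIrr

variable {k : Type u} [Field k]

local notation "spm" K => Spec.map (CommRingCat.ofHom (algebraMap k K))

/-- The points of a field base changed along an algebraic extension are maximal, hence components. -/
theorem card_points_field (K : Type u) [Field K] [Algebra k K] [FiniteDimensional k (separableClosure k K)] :
    Finite ↥(pullback (spm K) (spm (SeparableClosure k))) ∧
      Nat.card ↥(pullback (spm K) (spm (SeparableClosure k))) = Module.finrank k (separableClosure k K) := by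
  obtain ⟨hfin, hcard⟩ := card_components_field (k := k) K (SeparableClosure k)
  haveI := hfin
  let Z := pullback (spm K) (spm (SeparableClosure k))
  haveI : IsIntegralHom (pullback.fst (spm K) (spm (SeparableClosure k))) := isIntegralHom_fst (spm K) (SeparableClosure k)
  haveI : IsAffine Z := inferInstance
  have hmax : ∀ z : Z, IsMaximalPt z := by
    let φ : CommRingCat.of K ⟶ CommRingCat.of (K ⊗[k] SeparableClosure k) :=
      CommRingCat.ofHom Algebra.TensorProduct.includeLeftRingHom
    let e := (pullbackSpecIso k K (SeparableClosure k)).hom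
    haveI : Algebra.IsIntegral K (K ⊗[k] SeparableClosure k) := inferInstance
    intro z y hy
    apply e.homeomorph.injective
    have h1 : (e y : Spec (CommRingCat.of (K ⊗[k] SeparableClosure k))) ⤳ e z := hy.map e.continuous
    let P : PrimeSpectrum (K ⊗[k] SeparableClosure k) := e y
    let Q : PrimeSpectrum (K ⊗[k] SeparableClosure k) := e z
    have hP : P.asIdeal.IsMaximal := by
      haveI := P.isPrime
      refine @Ideal.isMaximal_of_isIntegral_of_isMaximal_comap K _ (K ⊗[k] SeparableClosure k) _ _ _ P.asIdeal P.isPrime ?_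
      rw [(Ideal.eq_bot_or_top (P.asIdeal.comap (algebraMap K (K ⊗[k] SeparableClosure k)))).resolve_right (Ideal.comap_ne_top _ P.isPrime.ne_top)]
      exact Ideal.bot_isMaximal
    exact (PrimeSpectrum.ext (hP.eq_of_le Q.isPrime.ne_top ((PrimeSpectrum.le_iff_specializes P Q).mpr h1)) : P = Q)
  let g : Z → ↥(irreducibleComponents ↥Z) := fun z => ⟨closure {z}, closure_mem_of_isMaximalPt (hmax z)⟩
  have hg : Function.Bijective g := by
    refine ⟨fun z z' h => ?_, fun T => ?_⟩
    · exact ((inseparable_iff_closure_eq.mpr (congrArg Subtype.val h)).eq)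
    · obtain ⟨z, hz, hzT⟩ := exists_generic_component T.2
      exact ⟨z, Subtype.ext hzT⟩
  exact ⟨Finite.of_injective g hg.1, (Nat.card_eq_of_bijective g hg).trans hcard⟩

variable {X : Scheme.{u}} (f : X ⟶ Spec (CommRingCat.of k))

/-- The fibres of the change to the separable closure. -/
theorem card_fibre (x : X) [Algebra k (X.residueField x)]
    (hφ : Spec.map (CommRingCat.ofHom (algebraMap k (X.residueField x))) = X.fromSpecResidueField x ≫ f)
    [FiniteDimensional k (separableClosure k (X.residueField x))] :
    (pullback.fst f (spm (SeparableClosure k)) ⁻¹' {x}).Finite ∧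
      Nat.card ↑(pullback.fst f (spm (SeparableClosure k)) ⁻¹' {x}) = Module.finrank k (separableClosure k (X.residueField x)) := by
  obtain ⟨q, -, -, hq, hqi⟩ := exists_bcMap f (spm (SeparableClosure k)) (X.fromSpecResidueField x)
  haveI := hqi inferInstance
  rw [Scheme.range_fromSpecResidueField] at hq
  obtain ⟨hfin, hcard⟩ := card_points_field (k := k) (X.residueField x)
  let e := (pullback.congrHom (g₁ := spm (SeparableClosure k)) hφ rfl).hom
  have hinj : Function.Injective (e ≫ q) := (e ≫ q).isEmbedding.injective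
  have hr : Set.range (e ≫ q) = pullback.fst f (spm (SeparableClosure k)) ⁻¹' {x} := by
    rw [show Set.range (e ≫ q) = Set.range q from e.surjective.range_comp q, hq]
  haveI := hfin
  rw [← hr]
  exact ⟨Set.finite_range _, by rw [Nat.card_range_of_injective hinj]; exact hcard⟩

/-- Finitely many finite sets of points are fixed by the automorphisms fixing a finite level. -/
theorem exists_level (k : Type u) [Field k] (X : Scheme.{u}) [X.Over (Spec (CommRingCat.of k))]
    {S : Set ↥(Curv2.bc k X (SeparableClosure k))} (hS : S.Finite)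
    (hfib : ∀ z ∈ S, (Curv2.bcFst k X (SeparableClosure k) ⁻¹' {Curv2.bcFst k X (SeparableClosure k) z}).Finite) :
    ∃ F : IntermediateField k (SeparableClosure k), FiniteDimensional k F ∧
      (∀ z ∈ S, ∀ σ : SeparableClosure k ≃ₐ[k] SeparableClosure k,
        (∀ c : F, σ (algebraMap F (SeparableClosure k) c) = algebraMap F (SeparableClosure k) c) →
          Curv2.galAct k X (SeparableClosure k) σ z = z) ∧
      ∀ z ∈ S, ∀ w, BcField.bcTrans k X (SeparableClosure k) F w = BcField.bcTrans k X (SeparableClosure k) F z → w = z := by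
  classical
  let K := SeparableClosure k
  let π := Curv2.bcFst k X K
  have key : ∀ z ∈ S, ∃ s : Finset K, ∀ σ : K ≃ₐ[k] K, (∀ c ∈ s, σ c = c) → Curv2.galAct k X K σ z = z := by
    intro z hz
    -- the points of the fibre which do not specialise to `z`
    let B := {w | π w = π z ∧ ¬ w ⤳ z}
    have hB : IsClosed (⋃ w ∈ B, closure ({w} : Set ↥(Curv2.bc k X K))) :=
      ((hfib z hz).subset (fun w hw => hw.1)).isClosed_biUnion fun _ _ => isClosed_closure
    obtain ⟨s, D, hDo, hzD, hDO, hfix⟩ := exists_fixedBy hB.isOpen_compl (z := z) (fun h => by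
      obtain ⟨w, hw, hwz⟩ := Set.mem_iUnion₂.mp h
      exact hw.2 (specializes_iff_mem_closure.mpr hwz))
    refine ⟨s, fun σ hσ => ?_⟩
    -- both `σ z ⤳ z` and `σ⁻¹ z ⤳ z`
    have h1 : ∀ τ : K ≃ₐ[k] K, (∀ c ∈ s, τ c = c) → ∀ w, Curv2.galAct k X K τ w = z ∨ Curv2.galAct k X K τ z = w →
        w ⤳ z := by
      intro τ hτ w hw
      by_contra hn
      have hwD : w ∈ D := by
        rcases hw with h | h
        · exact (hfix τ hτ w).mpr (h.symm ▸ hzD)
        · exact h ▸ (hfix τ hτ z).mp hzD
      refine hDO hwD (Set.mem_biUnion (show w ∈ B from ⟨?_, hn⟩) (subset_closure rfl))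
      rcases hw with h | h
      · rw [← h]; exact (BcField.bcFst_galAct_apply k X K τ w).symm
      · rw [← h]; exact BcField.bcFst_galAct_apply k X K τ z
    haveI := BcField.isIso_galAct k X K σ
    obtain ⟨w, hw⟩ := (Curv2.galAct k X K σ).surjective z
    have h2 : Curv2.galAct k X K σ z ⤳ z := h1 σ hσ _ (Or.inr rfl)
    have h3 : z ⤳ Curv2.galAct k X K σ z := hw ▸ (h1 σ hσ w (Or.inl hw)).map (Curv2.galAct k X K σ).continuous
    exact (h2.antisymm h3).eq
  choose! s hs using key
  let F := IntermediateField.adjoin k ((hS.toFinset.biUnion s : Finset K) : Set K)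
  haveI : FiniteDimensional k F := IntermediateField.finiteDimensional_adjoin fun x _ => Algebra.IsIntegral.isIntegral x
  have hfix : ∀ z ∈ S, ∀ σ : K ≃ₐ[k] K, (∀ c : F, σ (algebraMap F K c) = algebraMap F K c) → Curv2.galAct k X K σ z = z :=
    fun z hz σ hσ => hs z hz σ fun c hc => hσ ⟨c, IntermediateField.subset_adjoin k _
      (Finset.mem_coe.mpr (Finset.mem_biUnion.mpr ⟨z, hS.mem_toFinset.mpr hz, hc⟩))⟩
  refine ⟨F, inferInstance, hfix, fun z hz w hw => ?_⟩
  obtain ⟨σ, hσ, rfl⟩ := BcField.exists_galAct_over k X K F (x := z) (y := w) hw.symm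
  exact hfix z hz σ hσ

end Groth.Agent.GeomIrr
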